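import Cfsg.Agent.Lib.PauliFour.Main

/-! Facts shared by the three ambient groups. -/

set_option autoImplicit false

namespace CfsgLib.PauliFour

open Matrix Polynomial

variable {F : Type*} [Field F] {ι : Type} [Fintype ι] [DecidableEq ι] {R : Subgroup (GL ι F)}

theorem Sys.center_scalar (h : Sys R) (z : Subgroup.center R) : ∃ u : Fˣ, ((z : R) : GL ι F) = sc u :=
  h.central fun b hb => (congrArg Subtype.val (Subgroup.mem_center_iff.1 z.2 ⟨b, hb⟩)).symm

theorem Sys.scalar_mem (h : Sys R) (hk : Nat.card (Subgroup.center R) = 4) {u : Fˣ} (hu : u ^ 4 = 1) :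
    sc u ∈ R := by
  classical
  haveI := h.nonempty
  haveI := h.fin
  choose ψ hψ using h.center_scalar
  have hinj : Function.Injective ψ := fun a b e => by
    apply Subtype.ext; apply Subtype.ext
    rw [hψ a, hψ b, e]
  have hpow : ∀ z, ψ z ∈ rootsOfUnity 4 F := fun z => by
    rw [mem_rootsOfUnity]
    apply sc_injective (ι := ι)
    rw [map_pow, ← hψ, h.pow_four _ (z : R).2, map_one]
  let φ : Subgroup.center R → rootsOfUnity 4 F := fun z => ⟨ψ z, hpow z⟩
  haveI : Fintype (Subgroup.center R) := Fintype.ofFinite _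
  haveI : Fintype (rootsOfUnity 4 F) := Fintype.ofFinite _
  have hbij : Function.Bijective φ := by
    refine (Fintype.bijective_iff_injective_and_card φ).2
      ⟨fun a b e => hinj (congrArg Subtype.val e), le_antisymm
        (Fintype.card_le_of_injective φ fun a b e => hinj (congrArg Subtype.val e)) ?_⟩
    · rw [← Nat.card_eq_fintype_card (α := Subgroup.center R), hk, ← Nat.card_eq_fintype_card]
      exact card_rootsOfUnity F 4
  obtain ⟨z, hz⟩ := hbij.2 ⟨u, by rw [mem_rootsOfUnity]; exact hu⟩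
  have e : ψ z = u := congrArg Subtype.val hz
  rw [← e, ← hψ]
  exact (z : R).2

theorem Sys.scalar_sq (h : Sys R) (hk : Nat.card (Subgroup.center R) = 2) {u : Fˣ} (hu : sc u ∈ R) : u * u = 1 := by
  haveI := h.nonempty
  have hc : (⟨sc u, hu⟩ : R) ∈ Subgroup.center R := Subgroup.mem_center_iff.2 fun g => Subtype.ext (sc_comm u _).symm
  have e := pow_card_eq_one' (G := Subgroup.center R) (x := ⟨_, hc⟩)
  rw [hk] at e
  apply sc_injective (ι := ι)
  rw [map_mul, map_one, ← pow_two]
  exact congrArg (fun w : Subgroup.center R => ((w : R) : GL ι F)) e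

theorem exists_tau {p : ℕ} [Fact p.Prime] [CharP F p] (hp2 : p ≠ 2) (hp5 : p % 5 = 1 ∨ p % 5 = 4) :
    ∃ τ : F, τ ^ 2 + τ = 1 ∧ τ ^ p = τ := by
  haveI : Fact (Nat.Prime 5) := ⟨Nat.prime_five⟩
  have h1 : IsSquare ((p : ℕ) : ZMod 5) := by
    rw [← ZMod.natCast_mod]
    rcases hp5 with h | h <;> rw [h]
    · exact ⟨1, by simp⟩
    · exact ⟨2, by norm_num <;> rfl⟩
  obtain ⟨s, hs⟩ := (ZMod.exists_sq_eq_prime_iff_of_mod_four_eq_one (p := 5) (q := p) (by norm_num) hp2).1 h1
  have h2 : (2 : ZMod p) ≠ 0 := fun e => hp2 <| by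
    have hd : p ∣ 2 := (ZMod.natCast_eq_zero_iff 2 p).1 (by exact_mod_cast e)
    exact (Nat.prime_dvd_prime_iff_eq Fact.out Nat.prime_two).1 hd
  push_cast at hs
  refine ⟨ZMod.castHom (dvd_refl p) F ((s - 1) / 2), ?_, ?_⟩
  · rw [← map_pow, ← map_add, ← map_one (ZMod.castHom (dvd_refl p) F)]
    congr 1
    field_simp
    linear_combination -hs
  · rw [← map_pow, ZMod.pow_card]

theorem tau_product (h5 : (5 : F) ≠ 0) {τ : F} (h : τ ^ 2 + τ = 1) : (2 + τ) * (2 + τ) ≠ 1 := by
  intro e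
  have h3 : 3 * τ = -4 := by linear_combination e - h
  exact h5 (by linear_combination (3 * τ - 1) * h3 - 9 * h)

theorem five_pow {τ : F} (h : τ ^ 2 + τ = 1) {M : Matrix ι ι F} (hM : (M - 1) * (M * M - τ • M + 1) = 0) : M ^ 5 = 1 := by
  have e : (X ^ 5 - 1 : F[X]) = (X - 1) * (X * X - C τ * X + 1) * (X * X + (1 + C τ) * X + 1) := by
    have hC : C τ ^ 2 + C τ = (1 : F[X]) := by rw [← map_pow, ← map_add, h, map_one]
    linear_combination ((X : F[X]) * X * (X - 1)) * hC
  have := congrArg (aeval M) e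
  simp only [map_sub, map_pow, map_mul, map_add, aeval_X, aeval_C, map_one, Algebra.algebraMap_eq_smul_one,
    smul_mul_assoc, one_mul] at this
  rw [hM, zero_mul] at this
  exact sub_eq_zero.1 this

theorem relIndex_det {K : Subgroup (GL ι F)} {r : ℕ}
    (h : r ∣ (Subgroup.normalizer (R : Set (GL ι F))).relIndex (detOne K)) : r ∣ Nat.card (detOne K) :=
  h.trans (Subgroup.relIndex_dvd_card _ _)

theorem cube_ne (h2 : (2 : F) ≠ 0) (h3 : (3 : F) ≠ 0) : (7 : F) ≠ 1 ∧ (7 : F) ≠ 4 :=
  ⟨fun e => mul_ne_zero h2 h3 (by linear_combination e), fun e => h3 (by linear_combination e)⟩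

theorem small_cast {p : ℕ} [Fact p.Prime] [CharP F p] {n : ℕ} (hn : n.Prime) (h : p ≠ n) : (n : F) ≠ 0 := fun e =>
  h ((Nat.prime_dvd_prime_iff_eq Fact.out hn).1 ((CharP.cast_eq_zero_iff F p n).1 e))

theorem pow_mod_five {L : Type*} [Monoid L] {t : L} (ht : t ^ 5 = 1) (n : ℕ) : t ^ n = t ^ (n % 5) := by
  conv_lhs => rw [← Nat.mod_add_div n 5, pow_add, pow_mul, ht, one_pow, mul_one]

theorem order_four_iff (n : ℕ) : orderOf (n : ZMod 5) = 4 ↔ n % 5 = 2 ∨ n % 5 = 3 := by
  rw [← ZMod.natCast_mod]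
  have := Nat.mod_lt n (show 5 > 0 by norm_num)
  interval_cases h : n % 5
  · norm_num
    intro e
    have := pow_orderOf_eq_one (0 : ZMod 5)
    rw [e] at this
    exact absurd this (by decide)
  · simp
  · simp only [true_or, iff_true]
    exact orderOf_eq_iff (by norm_num) |>.2 ⟨by decide, fun m hm hm0 => by interval_cases m <;> decide⟩
  · simp only [or_true, iff_true]
    exact orderOf_eq_iff (by norm_num) |>.2 ⟨by decide, fun m hm hm0 => by interval_cases m <;> decide⟩
  · norm_num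
    intro e
    have := orderOf_dvd_of_pow_eq_one (show (4 : ZMod 5) ^ 2 = 1 by decide)
    rw [e] at this; norm_num at this

end CfsgLib.PauliFour
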