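import Cfsg.Agent.Lib.PauliFour.Basic

/-! Coordinates of `R` modulo scalars: the symplectic space of dimension four over the field with two elements. -/

set_option autoImplicit false

namespace CfsgLib.PauliFour

open Matrix

variable {F : Type*} [Field F] {ι : Type} [Fintype ι] [DecidableEq ι] {R : Subgroup (GL ι F)}

/-- Coordinates. -/
abbrev Vec := Fin 4 → ZMod 2

/-- The alternating form. -/
def form (v w : Vec) : ZMod 2 := v 1 * w 0 + v 0 * w 1 + v 3 * w 2 + v 2 * w 3

open Classical in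
/-- Whether two elements commute. -/
noncomputable def bit (x g : GL ι F) : ZMod 2 := if x * g = g * x then 0 else 1

theorem bit_comm (x g : GL ι F) : bit x g = bit g x := by
  unfold bit; split_ifs with h1 h2 h2 <;> simp_all

theorem bit_zero_iff {x g : GL ι F} : bit x g = 0 ↔ x * g = g * x := by
  unfold bit; split_ifs with h <;> simp [h]

theorem bit_one_anti {x g : GL ι F} (h : Sys R) (hx : g * x = -(x * g)) : bit x g = 1 := by
  haveI := h.nonempty
  unfold bit
  rw [if_neg]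
  intro e
  rw [← e] at hx
  exact ne_neg_self h.two _ hx

theorem bit_one_of {x g : GL ι F} (h : Sys R) (hx : x * g = -(g * x)) : bit x g = 1 :=
  bit_one_anti h (by rw [hx, neg_neg])

theorem Sys.bit_mul (h : Sys R) {x y g : GL ι F} (hx : x ∈ R) (hy : y ∈ R) (hg : g ∈ R) :
    bit (x * y) g = bit x g + bit y g := by
  rcases h.comm x hx g hg with ex | ex <;> rcases h.comm y hy g hg with ey | ey
  · rw [bit_zero_iff.2 ex, bit_zero_iff.2 ey, add_zero, bit_zero_iff, mul_assoc, ey, ← mul_assoc, ex, mul_assoc]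
  · rw [bit_zero_iff.2 ex, bit_one_of h ey, zero_add, bit_one_of h]
    rw [mul_assoc x y g, ey, mul_neg, ← mul_assoc, ex, mul_assoc]
  · rw [bit_one_of h ex, bit_zero_iff.2 ey, add_zero, bit_one_of h]
    rw [mul_assoc x y g, ey, ← mul_assoc x g y, ex, neg_mul, mul_assoc]
  · rw [bit_one_of h ex, bit_one_of h ey, show (1 : ZMod 2) + 1 = 0 by decide,
      bit_zero_iff, mul_assoc, ey, mul_neg, ← mul_assoc, ex, neg_mul, neg_neg, mul_assoc]

theorem bit_one (g : GL ι F) : bit 1 g = 0 := bit_zero_iff.2 (by simp)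

theorem bit_self (g : GL ι F) : bit g g = 0 := bit_zero_iff.2 rfl

/-- The coordinate vector of an element. -/
noncomputable def nu (f : Frame R) (x : GL ι F) : Vec := ![bit x f.b, bit x f.a, bit x f.d, bit x f.c]

/-- The representative of a vector. -/
def rep (f : Frame R) (v : Vec) : GL ι F :=
  f.a ^ (v 0).val * f.b ^ (v 1).val * f.c ^ (v 2).val * f.d ^ (v 3).val

variable (f : Frame R)

theorem rep_mem (v : Vec) : rep f v ∈ R :=
  mul_mem (mul_mem (mul_mem (pow_mem f.ha _) (pow_mem f.hb _)) (pow_mem f.hc _)) (pow_mem f.hd _)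

theorem nu_mul (h : Sys R) {x y : GL ι F} (hx : x ∈ R) (hy : y ∈ R) : nu f (x * y) = nu f x + nu f y := by
  funext i
  fin_cases i <;> simp [nu, h.bit_mul hx hy f.ha, h.bit_mul hx hy f.hb, h.bit_mul hx hy f.hc, h.bit_mul hx hy f.hd]

theorem nu_one : nu f 1 = 0 := by
  funext i; fin_cases i <;> simp [nu, bit_one]

theorem nu_pow (h : Sys R) {x : GL ι F} (hx : x ∈ R) (n : ℕ) : nu f (x ^ n) = n • nu f x := by
  induction n with
  | zero => simp [nu_one]
  | succ n ih => rw [pow_succ, nu_mul f h (pow_mem hx n) hx, ih, succ_nsmul]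

theorem nu_rep (h : Sys R) (v : Vec) : nu f (rep f v) = v := by
  have ha : nu f f.a = ![1, 0, 0, 0] := by
    simp [nu, bit_self, bit_one_anti h f.ba, bit_zero_iff.2 f.da.symm, bit_zero_iff.2 f.ca.symm]
  have hb : nu f f.b = ![0, 1, 0, 0] := by
    simp [nu, bit_self, bit_one_anti h (show f.a * f.b = -(f.b * f.a) by rw [f.ba, neg_neg]),
      bit_zero_iff.2 f.db.symm, bit_zero_iff.2 f.cb.symm]
  have hc : nu f f.c = ![0, 0, 1, 0] := by
    simp [nu, bit_self, bit_one_anti h f.dc, bit_zero_iff.2 f.ca, bit_zero_iff.2 f.cb]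
  have hd : nu f f.d = ![0, 0, 0, 1] := by
    simp [nu, bit_self, bit_one_anti h (show f.c * f.d = -(f.d * f.c) by rw [f.dc, neg_neg]),
      bit_zero_iff.2 f.da, bit_zero_iff.2 f.db]
  rw [rep, nu_mul f h (mul_mem (mul_mem (pow_mem f.ha _) (pow_mem f.hb _)) (pow_mem f.hc _)) (pow_mem f.hd _),
    nu_mul f h (mul_mem (pow_mem f.ha _) (pow_mem f.hb _)) (pow_mem f.hc _),
    nu_mul f h (pow_mem f.ha _) (pow_mem f.hb _), nu_pow f h f.ha, nu_pow f h f.hb, nu_pow f h f.hc,
    nu_pow f h f.hd, ha, hb, hc, hd]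
  funext i
  fin_cases i <;> simp

/-- The coordinate map as a homomorphism. -/
noncomputable def nuHom (h : Sys R) : R →* Multiplicative Vec :=
  MonoidHom.mk' (fun x => Multiplicative.ofAdd (nu f x.1)) fun x y => by
    rw [← ofAdd_add]; exact congrArg Multiplicative.ofAdd (nu_mul f h x.2 y.2)

theorem ker_nuHom (h : Sys R) : (nuHom f h).ker = Subgroup.center R := by
  haveI := h.fin
  have hsurj : Function.Surjective (nuHom f h) := fun v =>
    ⟨⟨rep f v.toAdd, rep_mem f _⟩, congrArg Multiplicative.ofAdd (nu_rep f h v.toAdd)⟩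
  have hle : Subgroup.center R ≤ (nuHom f h).ker := fun z hz => by
    show Multiplicative.ofAdd (nu f z.1) = 1
    have hz' : ∀ g ∈ R, (z : GL ι F) * g = g * z := fun g hg =>
      (congrArg Subtype.val (Subgroup.mem_center_iff.1 hz ⟨g, hg⟩)).symm
    rw [ofAdd_eq_one]
    funext i
    fin_cases i <;> simp [nu, bit_zero_iff.2 (hz' _ f.ha), bit_zero_iff.2 (hz' _ f.hb), bit_zero_iff.2 (hz' _ f.hc),
      bit_zero_iff.2 (hz' _ f.hd)]
  refine (Subgroup.eq_of_le_of_card_ge hle ?_).symm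
  have := Subgroup.card_mul_index (nuHom f h).ker
  rw [Subgroup.index_ker, MonoidHom.range_eq_top.2 hsurj, Subgroup.card_top, h.card,
    Nat.card_congr Multiplicative.toAdd, Nat.card_eq_fintype_card (α := Vec), show Fintype.card Vec = 16 from rfl] at this
  omega

theorem scalar_of_nu (h : Sys R) {x : GL ι F} (hx : x ∈ R) (h0 : nu f x = 0) : ∃ u : Fˣ, x = sc u := by
  have : (⟨x, hx⟩ : R) ∈ (nuHom f h).ker := by
    show Multiplicative.ofAdd (nu f x) = 1
    rw [h0]; rfl
  rw [ker_nuHom f h] at this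
  exact h.central fun b hb => (congrArg Subtype.val (Subgroup.mem_center_iff.1 this ⟨b, hb⟩)).symm

theorem nu_inv (h : Sys R) {x : GL ι F} (hx : x ∈ R) : nu f x⁻¹ = nu f x := by
  have := nu_mul f h (inv_mem hx) hx
  rw [inv_mul_cancel, nu_one, eq_comm, add_eq_zero_iff_eq_neg] at this
  rw [this]
  funext i
  exact ZMod.neg_eq_self_mod_two _

theorem eq_rep (h : Sys R) {x : GL ι F} (hx : x ∈ R) :
    ∃ u : Fˣ, sc u ∈ R ∧ x = sc u * rep f (nu f x) := by
  have h0 : nu f (x * (rep f (nu f x))⁻¹) = 0 := by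
    rw [nu_mul f h hx (inv_mem (rep_mem f _)), nu_inv f h (rep_mem f _), nu_rep f h]
    funext i; exact CharTwo.add_self_eq_zero _
  obtain ⟨u, hu⟩ := scalar_of_nu f h (mul_mem hx (inv_mem (rep_mem f _))) h0
  exact ⟨u, hu ▸ mul_mem hx (inv_mem (rep_mem f _)), by rw [← hu, inv_mul_cancel_right]⟩

theorem bit_nu (h : Sys R) {x y : GL ι F} (hx : x ∈ R) (hy : y ∈ R) : bit x y = form (nu f x) (nu f y) := by
  obtain ⟨u, hu, e⟩ := eq_rep f h hy
  have hp : ∀ {g : GL ι F}, g ∈ R → ∀ n : ℕ, bit x (g ^ n) = n * bit x g := fun {g} hg n => by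
    induction n with
    | zero => rw [pow_zero, bit_comm, bit_one]; simp
    | succ n ih => rw [pow_succ, bit_comm, h.bit_mul (pow_mem hg n) hg hx, bit_comm, ih, bit_comm g x]; push_cast; ring
  conv_lhs => rw [e]
  rw [bit_comm, h.bit_mul hu (rep_mem f _) hx, bit_zero_iff.2 (sc_comm u x), zero_add, rep,
    h.bit_mul (mul_mem (mul_mem (pow_mem f.ha _) (pow_mem f.hb _)) (pow_mem f.hc _)) (pow_mem f.hd _) hx,
    h.bit_mul (mul_mem (pow_mem f.ha _) (pow_mem f.hb _)) (pow_mem f.hc _) hx,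
    h.bit_mul (pow_mem f.ha _) (pow_mem f.hb _) hx, bit_comm _ x, bit_comm _ x, bit_comm _ x, bit_comm _ x,
    hp f.ha, hp f.hb, hp f.hc, hp f.hd]
  simp only [ZMod.natCast_val, ZMod.cast_id', id_eq, form, nu, Matrix.cons_val_zero, Matrix.cons_val_one,
    Matrix.cons_val]
  ring

theorem trace_eq_zero (h : Sys R) {x : GL ι F} (hx : x ∈ R) (hn : nu f x ≠ 0) :
    (x : Matrix ι ι F).trace = 0 := by
  obtain ⟨g, hg, hb⟩ : ∃ g ∈ R, ¬ x * g = g * x := by
    by_contra! hh
    exact hn (by funext i; fin_cases i <;> simp [nu, bit_zero_iff.2 (hh _ f.ha), bit_zero_iff.2 (hh _ f.hb),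
      bit_zero_iff.2 (hh _ f.hc), bit_zero_iff.2 (hh _ f.hd)])
  have e : g * x * g⁻¹ = -x := by
    rw [mul_inv_eq_iff_eq_mul, neg_mul, (h.comm x hx g hg).resolve_left hb, neg_neg]
  have := congrArg (fun w : GL ι F => (w : Matrix ι ι F).trace) e
  simp only [Units.val_mul, Units.val_neg, Matrix.trace_neg, Matrix.trace_units_conj] at this
  have h2 : (2 : F) * (x : Matrix ι ι F).trace = 0 := by linear_combination this
  exact (mul_eq_zero.1 h2).resolve_left h.two

theorem twirl (h : Sys R) (M : Matrix ι ι F) :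
    ∑ v : Vec, (rep f v : Matrix ι ι F) * M * ((rep f v)⁻¹ : GL ι F) = (4 * M.trace) • (1 : Matrix ι ι F) := by
  haveI := h.nonempty
  set S := ∑ v : Vec, (rep f v : Matrix ι ι F) * M * ((rep f v)⁻¹ : GL ι F)
  have hinv : ∀ s ∈ R, (s : Matrix ι ι F) * S * ((s⁻¹ : GL ι F) : Matrix ι ι F) = S := by
    intro s hs
    rw [Finset.mul_sum, Finset.sum_mul]
    refine Fintype.sum_equiv (Equiv.addLeft (nu f s)) _ _ fun v => ?_
    obtain ⟨u, hu, e⟩ := eq_rep f h (mul_mem hs (rep_mem f v))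
    rw [nu_mul f h hs (rep_mem f v), nu_rep f h] at e
    have e' : ∀ g : GL ι F, ((sc u * g : GL ι F) : Matrix ι ι F) * M * (((sc u * g)⁻¹ : GL ι F)) =
        (g : Matrix ι ι F) * M * (g⁻¹ : GL ι F) := fun g => by
      rw [sc_comm, Units.val_mul, _root_.mul_inv_rev, ← map_inv, sc_comm, Units.val_mul]
      simp only [coe_sc, mul_assoc, smul_mul_assoc, mul_smul_comm, one_mul, smul_smul, mul_one]
      rw [← Units.val_mul, inv_mul_cancel, Units.val_one, one_smul]
    rw [Equiv.coe_addLeft, ← e' (rep f (nu f s + v)), ← e, Units.val_mul, _root_.mul_inv_rev, Units.val_mul]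
    simp only [mul_assoc]
  obtain ⟨c, hc⟩ := h.irr S fun s hs => by
    conv_rhs => rw [← hinv s⁻¹ (inv_mem hs), inv_inv]
    rw [← mul_assoc, ← mul_assoc, ← Units.val_mul, mul_inv_cancel, Units.val_one, one_mul]
  have ht : S.trace = 16 * M.trace := by
    rw [Matrix.trace_sum]
    simp only [Matrix.trace_units_conj, Finset.sum_const, Finset.card_univ, show Fintype.card Vec = 16 from rfl,
      nsmul_eq_mul, Nat.cast_ofNat]
  rw [hc, Matrix.trace_smul, Matrix.trace_one, h.dim, smul_eq_mul, Nat.cast_ofNat] at ht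
  rw [hc]
  congr 1
  have h4 : (4 : F) ≠ 0 := by rw [show (4 : F) = 2 * 2 by norm_num]; exact mul_ne_zero h.two h.two
  exact mul_right_cancel₀ h4 (by linear_combination ht)

theorem coeff_rep (h : Sys R) (v w : Vec) :
    ((((rep f v)⁻¹ * rep f w : GL ι F)) : Matrix ι ι F).trace = if v = w then 4 else 0 := by
  split_ifs with hvw
  · subst hvw
    rw [inv_mul_cancel, Units.val_one, Matrix.trace_one, h.dim, Nat.cast_ofNat]
  · refine trace_eq_zero f h (mul_mem (inv_mem (rep_mem f v)) (rep_mem f w)) ?_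
    rw [nu_mul f h (inv_mem (rep_mem f v)) (rep_mem f w), nu_inv f h (rep_mem f v), nu_rep f h, nu_rep f h]
    intro e
    apply hvw
    funext i
    exact CharTwo.add_eq_zero.1 (congrFun e i)

end CfsgLib.PauliFour
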