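import Mathlib

/-! Groups of symplectic type and exponent four of order 32 or 64: commutators and squares are central. -/

set_option autoImplicit false

namespace CfsgLib.PauliFour

open Subgroup
open scoped commutatorElement

variable {G : Type*} [Group G]

theorem card_cyclic_le_four [Finite G] (h4 : ∀ x : G, x ^ 4 = 1) (A : Subgroup G) (hA : IsCyclic A) :
    Nat.card A ≤ 4 := by
  obtain ⟨g, hg⟩ := IsCyclic.exists_ofOrder_eq_natCard (α := A)
  rw [← hg]
  exact Nat.le_of_dvd (by norm_num) (orderOf_dvd_of_pow_eq_one (Subtype.ext (by simpa using h4 g.1)))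

theorem upperTwo_comm_commutator {w : G} (hw : w ∈ Subgroup.upperCentralSeries G 2) :
    commutator G ≤ centralizer ({w} : Set G) := by
  have hc : ∀ g, w * g * w⁻¹ * g⁻¹ ∈ center G := fun g => by
    have := (Subgroup.mem_upperCentralSeries_succ_iff).1 hw g
    rwa [Subgroup.upperCentralSeries_one] at this
  let f : G →* center G :=
    MonoidHom.mk' (fun g => ⟨w * g * w⁻¹ * g⁻¹, hc g⟩) fun g h => Subtype.ext (by
      show w * (g * h) * w⁻¹ * (g * h)⁻¹ = (w * g * w⁻¹ * g⁻¹) * (w * h * w⁻¹ * h⁻¹)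
      have := mem_center_iff.1 (hc h) g
      calc w * (g * h) * w⁻¹ * (g * h)⁻¹
          = w * g * w⁻¹ * ((w * h * w⁻¹ * h⁻¹) * g⁻¹) := by group
        _ = w * g * w⁻¹ * (g⁻¹ * (w * h * w⁻¹ * h⁻¹)) := by
            rw [mem_center_iff.1 (hc h) g⁻¹]
        _ = _ := by group)
  have hker : commutator G ≤ f.ker := by
    rw [commutator_eq_closure, closure_le]
    rintro _ ⟨a, b, rfl⟩
    rw [SetLike.mem_coe, MonoidHom.mem_ker, map_commutatorElement, commutatorElement_eq_one_iff_commute]
    exact Subtype.ext (mem_center_iff.1 (f b).2 _)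
  intro g hg
  rw [mem_centralizer_singleton_iff]
  have : w * g * w⁻¹ * g⁻¹ = 1 := congrArg Subtype.val (hker hg)
  rw [mul_inv_eq_one, mul_inv_eq_iff_eq_mul] at this
  exact this.symm

set_option maxHeartbeats 800000 in
theorem commutator_mem_center [Finite G] (hp : IsPGroup 2 G) (h4 : ∀ x : G, x ^ 4 = 1)
    (hcyc : ∀ A : Subgroup G, A.Characteristic → IsMulCommutative A → IsCyclic A)
    (hsz : (Nat.card (center G) = 4) ∨ (Nat.card (center G) = 2 ∧ Nat.card G = 32)) (x₀ y₀ : G) :
    x₀ * y₀ * x₀⁻¹ * y₀⁻¹ ∈ center G := by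
  by_contra h0
  have hW2 : Subgroup.upperCentralSeries G 2 ≠ ⊤ := fun h => h0 (by
    have := (Subgroup.mem_upperCentralSeries_succ_iff).1 (show x₀ ∈ Subgroup.upperCentralSeries G 2 by rw [h]; trivial) y₀
    rwa [Subgroup.upperCentralSeries_one] at this)
  haveI : Group.IsNilpotent G := hp.isNilpotent
  obtain ⟨x, hx3, hx2⟩ : ∃ x ∈ Subgroup.upperCentralSeries G 3, x ∉ Subgroup.upperCentralSeries G 2 := by
    by_contra! h
    apply hW2
    have hst : ∀ n, Subgroup.upperCentralSeries G n ≤ Subgroup.upperCentralSeries G 2 := by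
      intro n
      induction n with
      | zero => rw [Subgroup.upperCentralSeries_zero]; exact bot_le
      | succ n ih =>
        intro g hg
        refine h g ((Subgroup.mem_upperCentralSeries_succ_iff).2 fun y => ih ((Subgroup.mem_upperCentralSeries_succ_iff).1 hg y))
    obtain ⟨n, hn⟩ := Group.IsNilpotent.nilpotent G
    exact top_le_iff.1 (hn ▸ hst n)
  obtain ⟨y, hy⟩ : ∃ y, x * y * x⁻¹ * y⁻¹ ∉ center G := by
    by_contra! h
    exact hx2 ((Subgroup.mem_upperCentralSeries_succ_iff).2 fun y => by rw [Subgroup.upperCentralSeries_one]; exact h y)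
  have ha2 : x * y * x⁻¹ * y⁻¹ ∈ Subgroup.upperCentralSeries G 2 := (Subgroup.mem_upperCentralSeries_succ_iff).1 hx3 y
  set W := Subgroup.upperCentralSeries G 2
  haveI hWc : W.Characteristic := inferInstance
  set A := W ⊓ centralizer (W : Set G)
  haveI hAc : A.Characteristic := inferInstance
  have hAab : IsMulCommutative A := ⟨⟨fun u v => Subtype.ext (mem_centralizer_iff.1 v.2.2 u.1 u.2.1)⟩⟩
  set a := x * y * x⁻¹ * y⁻¹ with ha
  have haA : a ∈ A := ⟨ha2, mem_centralizer_iff.2 fun w hw => by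
    have := upperTwo_comm_commutator hw (commutator_mem_commutator (mem_top x) (mem_top y) :
      ⁅x, y⁆ ∈ commutator G)
    rw [mem_centralizer_singleton_iff] at this
    exact this.symm⟩
  have hZA : center G ≤ A := fun z hz => ⟨by
    refine Subgroup.upperCentralSeries_mono G (show 1 ≤ 2 by norm_num) ?_
    rwa [Subgroup.upperCentralSeries_one], fun w _ => mem_center_iff.1 hz w⟩
  have hcA := hcyc A hAc hAab
  have hA4 := card_cyclic_le_four h4 A hcA
  have hlt : center G < A := lt_of_le_of_ne hZA fun h => hy (h ▸ haA)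
  have hcard : Nat.card (center G) < Nat.card A := by
    by_contra! hle
    exact hlt.ne (eq_of_le_of_card_ge hZA hle)
  obtain ⟨hZ2, hG⟩ := hsz.resolve_left (by omega)
  have hA4' : Nat.card A = 4 := by
    obtain ⟨m, hm⟩ := card_dvd_of_le hZA
    rcases Nat.lt_or_ge m 2 with hm2 | hm2 <;> nlinarith
  -- powers of `a`
  have haord : orderOf a = 4 := by
    have h1 : orderOf a ∣ 2 ^ 2 := orderOf_dvd_of_pow_eq_one (h4 a)
    obtain ⟨k, hk, hk'⟩ := (Nat.dvd_prime_pow Nat.prime_two).1 h1
    interval_cases k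
    · exact absurd ((orderOf_eq_one_iff.1 (by simpa using hk')).symm ▸ one_mem _) hy
    · exfalso
      classical
      obtain ⟨z, hz⟩ := exists_prime_orderOf_dvd_card' (G := center G) 2 (by rw [hZ2])
      haveI := hcA
      haveI := Fintype.ofFinite A
      have := IsCyclic.card_orderOf_eq_totient (α := A) (d := 2) (by
        rw [← Nat.card_eq_fintype_card, hA4']; norm_num)
      rw [show Nat.totient 2 = 1 from rfl, Finset.card_eq_one] at this
      obtain ⟨u, hu⟩ := this
      have e1 : (⟨a, haA⟩ : A) ∈ ({v : A | orderOf v = 2} : Finset A) := by simpa using hk'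
      have e2 : (⟨z.1, hZA z.2⟩ : A) ∈ ({v : A | orderOf v = 2} : Finset A) := by
        rw [Finset.mem_filter, ← Subgroup.orderOf_coe]
        exact ⟨Finset.mem_univ _, (Subgroup.orderOf_coe z).trans hz⟩
      rw [hu, Finset.mem_singleton] at e1 e2
      have e3 : a = z.1 := congrArg Subtype.val (e1.trans e2.symm)
      exact hy (e3 ▸ z.2)
    · exact hk'
  have hAz : A = zpowers a := (eq_of_le_of_card_ge (zpowers_le.2 haA)
    (by rw [Nat.card_zpowers, haord, hA4'])).symm
  have hsqZ : a ^ 2 ∈ center G := by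
    obtain ⟨z, hz⟩ := exists_prime_orderOf_dvd_card' (G := center G) 2 (by rw [hZ2])
    obtain ⟨n, hn⟩ := (mem_zpowers_iff).1 (hAz ▸ hZA z.2)
    have hz2 : (z : G) ^ 2 = 1 := congrArg Subtype.val (hz ▸ pow_orderOf_eq_one z)
    have h4n : ((orderOf a : ℕ) : ℤ) ∣ n * 2 := orderOf_dvd_iff_zpow_eq_one.2 (by
      rw [zpow_mul, hn, show ((2 : ℤ)) = ((2 : ℕ) : ℤ) from rfl, zpow_natCast, hz2])
    have hz1 : ¬ ((orderOf a : ℕ) : ℤ) ∣ n := fun h => by
      rw [orderOf_dvd_iff_zpow_eq_one, hn] at h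
      rw [show z = 1 from Subtype.ext h, orderOf_one] at hz
      exact absurd hz (by norm_num)
    rw [haord] at h4n hz1
    have e : (z : G) = a ^ 2 := by
      obtain ⟨m, rfl⟩ : ∃ m, n = 4 * m + 2 := ⟨n / 4, by omega⟩
      rw [← hn, zpow_add, show (a : G) ^ (4 * m) = 1 by
        rw [zpow_mul, show a ^ (4 : ℤ) = 1 by exact_mod_cast h4 a, one_zpow], one_mul]
      exact zpow_natCast a 2
    exact e ▸ z.2
  have hsq1 : a ^ 2 ≠ 1 := fun h => by
    have := Nat.le_of_dvd (by norm_num) (orderOf_dvd_of_pow_eq_one h)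
    omega
  -- the centraliser of `A`
  set C := centralizer (A : Set G)
  haveI hCc : C.Characteristic := inferInstance
  have hmemC : ∀ g, g ∈ C ↔ g * a * g⁻¹ = a := fun g => by
    constructor
    · intro hg
      rw [mul_inv_eq_iff_eq_mul]
      exact (mem_centralizer_iff.1 hg a haA).symm
    · intro hg
      refine mem_centralizer_iff.2 fun w hw => ?_
      rw [hAz] at hw
      obtain ⟨n, rfl⟩ := mem_zpowers_iff.1 hw
      exact (Commute.zpow_right (mul_inv_eq_iff_eq_mul.1 hg) n).eq.symm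
  have hconj : ∀ g, g ∉ C → g * a * g⁻¹ = a⁻¹ := fun g hg => by
    have hA' : g * a * g⁻¹ ∈ A := (Normal.conj_mem inferInstance a haA g)
    rw [hAz] at hA'
    obtain ⟨n, hn⟩ := mem_zpowers_iff.1 hA'
    rw [← zpow_mod_orderOf, haord] at hn
    have : (n % 4) = 0 ∨ n % 4 = 1 ∨ n % 4 = 2 ∨ n % 4 = 3 := by omega
    have hinv : a ^ (3 : ℕ) = a⁻¹ := eq_inv_of_mul_eq_one_left (by rw [← pow_succ]; exact h4 a)
    rcases this with h | h | h | h <;> simp only [Nat.cast_ofNat, h] at hn
    · rw [zpow_zero, eq_comm, conj_eq_one_iff] at hn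
      exact absurd (hn ▸ one_mem _) hy
    · exact absurd ((hmemC g).2 (by simpa using hn.symm)) hg
    · have e : g * a * g⁻¹ = a ^ 2 := hn.symm.trans (zpow_natCast a 2)
      have : (g * a * g⁻¹) ^ 2 = 1 := by rw [e, ← pow_mul]; exact h4 a
      rw [conj_pow, conj_eq_one_iff] at this
      exact absurd this hsq1
    · rw [← hn, show ((3 : ℤ)) = ((3 : ℕ) : ℤ) from rfl, zpow_natCast, hinv]
  have hCmul : ∀ g g', g ∉ C → g' ∉ C → g * g' ∈ C := fun g g' hg hg' => (hmemC _).2 (by
    calc g * g' * a * (g * g')⁻¹ = g * (g' * a * g'⁻¹) * g⁻¹ := by group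
      _ = (g * a * g⁻¹)⁻¹ := by rw [hconj g' hg']; group
      _ = a := by rw [hconj g hg, inv_inv])
  -- `b` in `C` and `t` with `[t, b]` generating `A`
  obtain ⟨b, t, e, hbC, htb, heA, he2⟩ : ∃ b t e : G, b ∈ C ∧ t * b * t⁻¹ = e * b ∧ e ∈ A ∧ e ^ 2 ≠ 1 := by
    have hinv2 : a⁻¹ ^ 2 ≠ 1 := by rwa [inv_pow, Ne, inv_eq_one]
    by_cases hyC : y ∈ C
    · exact ⟨y, x, a, hyC, by rw [ha]; group, haA, hsq1⟩
    by_cases hxC : x ∈ C
    · exact ⟨x, y, a⁻¹, hxC, by rw [ha]; group, inv_mem haA, hinv2⟩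
    · exact ⟨x * y, y, a⁻¹, hCmul x y hxC hyC, by rw [ha]; group, inv_mem haA, hinv2⟩
  have hC16 : 16 ≤ Nat.card C := by
    obtain ⟨g, hg⟩ : ∃ g, g ∉ C := by
      by_contra! h
      exact hy (mem_center_iff.2 fun g => (mem_centralizer_iff.1 (h g) a haA).symm)
    have hix : C.index ≤ 2 := by
      have : C.index = 2 := index_eq_two_iff.2 ⟨g, fun u => by
        by_cases hu : u ∈ C
        · exact Or.inr ⟨hu, fun h => hg (by have := mul_mem (inv_mem hu) h; rwa [inv_mul_cancel_left] at this)⟩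
        · exact Or.inl ⟨hCmul u g hu hg, hu⟩⟩
      omega
    have := card_mul_index C
    rw [hG] at this
    nlinarith
  have hCnab : ¬ IsMulCommutative C := fun h => by
    have := card_cyclic_le_four h4 C (hcyc C hCc h)
    omega
  have hb2 : b ^ 2 ∈ A := by
    by_contra hb2
    apply hCnab
    have hAC : A ≤ C := fun u hu => mem_centralizer_iff.2 fun w hw => (mem_centralizer_iff.1 hu.2 w hw.1)
    set U := A ⊔ zpowers b
    have hUC : U ≤ C := sup_le hAC (zpowers_le.2 hbC)
    have hUab : IsMulCommutative U := by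
      have hle : U ≤ centralizer (U : Set G) := by
        have hb : ∀ u ∈ A, u * b = b * u := fun u hu => mem_centralizer_iff.1 hbC u hu
        refine sup_le (fun u hu => ?_) (zpowers_le.2 ?_)
        · refine (le_centralizer_iff.2 (sup_le ?_ ?_) : A ≤ centralizer (U : Set G)) hu
          · exact fun v hv => mem_centralizer_iff.2 fun w hw => mem_centralizer_iff.1 hv.2 w hw.1
          · exact zpowers_le.2 hbC
        · refine mem_centralizer_iff.2 fun w hw => ?_
          have : U ≤ centralizer ({b} : Set G) := sup_le (fun u hu => mem_centralizer_singleton_iff.2 (hb u hu))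
            (zpowers_le.2 (mem_centralizer_singleton_iff.2 rfl))
          exact mem_centralizer_singleton_iff.1 (this hw)
      exact ⟨⟨fun u v => Subtype.ext (mem_centralizer_iff.1 (hle v.2) u.1 u.2)⟩⟩
    have hidx : 3 ≤ A.relIndex U := by
      have hbU : b ∈ U := (le_sup_right : zpowers b ≤ U) (mem_zpowers b)
      have h0 : A.relIndex U ≠ 0 := index_ne_zero_of_finite
      have h1 : A.relIndex U ≠ 1 := fun h => hb2 (pow_mem (relIndex_eq_one.1 h hbU) 2)
      have h2 : A.relIndex U ≠ 2 := fun h => hb2 (by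
        have := Subgroup.sq_mem_of_index_two (H := A.subgroupOf U) h ⟨b, hbU⟩
        rw [mem_subgroupOf, SubmonoidClass.coe_pow] at this
        exact this)
      omega
    have hU : 12 ≤ Nat.card U := by
      have := relIndex_mul_relIndex ⊥ A U bot_le le_sup_left
      rw [relIndex_bot_left, relIndex_bot_left] at this
      nlinarith
    have hUeq : U = C := eq_of_le_of_card_ge hUC (by
      have hCle : Nat.card C ∣ 32 := hG ▸ card_subgroup_dvd_card C
      have hC32 : Nat.card C ≠ 32 := fun h => by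
        have hC : C = ⊤ := eq_top_of_card_eq _ (h.trans hG.symm)
        exact hy (mem_center_iff.2 fun g => (mem_centralizer_iff.1 (hC ▸ mem_top g : g ∈ C) a haA).symm)
      have hUd : Nat.card U ∣ 32 := hG ▸ card_subgroup_dvd_card U
      obtain ⟨i, hi, hi'⟩ := (Nat.dvd_prime_pow Nat.prime_two (m := 5)).1 hCle
      obtain ⟨j, hj, hj'⟩ := (Nat.dvd_prime_pow Nat.prime_two (m := 5)).1 hUd
      have := card_le_of_le hUC
      rw [hi'] at hC32 ⊢
      rw [hj'] at hU ⊢
      interval_cases i <;> interval_cases j <;> omega)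
    exact hUeq ▸ hUab
  have hb2Z : b ^ 2 ∈ center G := by
    rw [hAz] at hb2
    obtain ⟨n, hn⟩ := mem_zpowers_iff.1 hb2
    have h1 : a ^ (n * 2) = 1 := by
      rw [zpow_mul, hn, show ((2 : ℤ)) = ((2 : ℕ) : ℤ) from rfl, zpow_natCast, ← pow_mul]; exact h4 b
    rw [← orderOf_dvd_iff_zpow_eq_one, haord] at h1
    obtain ⟨m, rfl⟩ : ∃ m, n = 2 * m := ⟨n / 2, by omega⟩
    rw [← hn, zpow_mul]
    exact zpow_mem (by exact_mod_cast hsqZ) m
  have heb : e * b = b * e := mem_centralizer_iff.1 hbC e heA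
  apply he2
  have h1 : (t * b * t⁻¹) ^ 2 = b ^ 2 := by
    rw [conj_pow, mul_inv_eq_iff_eq_mul]; exact mem_center_iff.1 hb2Z t
  rw [htb, Commute.mul_pow heb] at h1
  exact mul_eq_right.1 h1

theorem squares_central [Finite G] (h4 : ∀ x : G, x ^ 4 = 1)
    (hcyc : ∀ A : Subgroup G, A.Characteristic → IsMulCommutative A → IsCyclic A)
    (hsz : Nat.card (center G) = 4 ∨ Nat.card (center G) = 2)
    (hc : ∀ x y : G, x * y * x⁻¹ * y⁻¹ ∈ center G) (x : G) : x ^ 2 ∈ center G := by
  have hmul : ∀ u g, u ^ 2 * g * (u ^ 2)⁻¹ * g⁻¹ = (u * g * u⁻¹ * g⁻¹) ^ 2 := fun u g => by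
    have := mem_center_iff.1 (hc u g) u
    calc u ^ 2 * g * (u ^ 2)⁻¹ * g⁻¹ = (u * (u * g * u⁻¹ * g⁻¹)) * (g * u⁻¹ * g⁻¹) := by
          rw [pow_two u]; group
      _ = ((u * g * u⁻¹ * g⁻¹) * u) * (g * u⁻¹ * g⁻¹) := by rw [this]
      _ = _ := by rw [pow_two (u * g * u⁻¹ * g⁻¹)]; group
  rcases hsz with h | h
  · set U := closure (Set.range fun u : G => u ^ 2) ⊔ center G
    haveI hchar : U.Characteristic := by
      haveI : (closure (Set.range fun u : G => u ^ 2)).Characteristic := characteristic_iff_map_le.2 fun φ => by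
        rw [MonoidHom.map_closure, closure_le]
        rintro _ ⟨_, ⟨u, rfl⟩, rfl⟩
        exact subset_closure ⟨φ u, (map_pow φ.toMonoidHom u 2).symm⟩
      infer_instance
    have hab : IsMulCommutative U := by
      have hle : U ≤ centralizer (U : Set G) := by
        refine le_centralizer_iff.1 (sup_le ?_ (fun z hz => mem_centralizer_iff.2 fun w _ => mem_center_iff.1 hz w))
        rw [closure_le]
        rintro _ ⟨u, rfl⟩
        show u ^ 2 ∈ centralizer (U : Set G)
        have : U ≤ centralizer ({u ^ 2} : Set G) := sup_le ((closure_le _).2 (by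
            rintro _ ⟨v, rfl⟩
            rw [SetLike.mem_coe, mem_centralizer_singleton_iff]
            have e : (u * v ^ 2 * u⁻¹ * (v ^ 2)⁻¹) ^ 2 = 1 := by
              have h1 : u * v ^ 2 * u⁻¹ * (v ^ 2)⁻¹ = ((v * u * v⁻¹ * u⁻¹) ^ 2)⁻¹ := by
                rw [← hmul]; group
              rw [h1, inv_pow, inv_eq_one, ← pow_mul]
              exact h4 _
            rw [← hmul, mul_inv_eq_one, mul_inv_eq_iff_eq_mul] at e
            exact e.symm)) (fun z hz => mem_centralizer_singleton_iff.2 ((mem_center_iff.1 hz _).symm))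
        exact mem_centralizer_iff.2 fun w hw => mem_centralizer_singleton_iff.1 (this hw)
      exact ⟨⟨fun u v => Subtype.ext (mem_centralizer_iff.1 (hle v.2) u.1 u.2)⟩⟩
    have := card_cyclic_le_four h4 U (hcyc U hchar hab)
    rw [eq_of_le_of_card_ge (le_sup_right : center G ≤ U) (h.symm ▸ this)]
    exact (le_sup_left : _ ≤ U) (subset_closure ⟨x, rfl⟩)
  · refine mem_center_iff.2 fun g => ?_
    have h2 : (x * g * x⁻¹ * g⁻¹) ^ 2 = 1 := by
      have := pow_card_eq_one' (G := center G) (x := ⟨_, hc x g⟩)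
      rw [h] at this
      exact congrArg Subtype.val this
    rw [← hmul, mul_inv_eq_one, mul_inv_eq_iff_eq_mul] at h2
    exact h2.symm

end CfsgLib.PauliFour
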