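import Cfsg.Agent.Lib.PauliFour.Group
import Cfsg.Prelude.Def_GeometricClasses

/-! Absolutely irreducible symplectic-type 2-groups in dimension four: standard generators. -/

set_option autoImplicit false

namespace CfsgLib.PauliFour

open Matrix

variable {F : Type*} [Field F] {ι : Type} [Fintype ι] [DecidableEq ι] {R : Subgroup (GL ι F)}

/-- The scalar matrix. -/
def sc : Fˣ →* GL ι F := Units.map (algebraMap F (Matrix ι ι F)).toMonoidHom

@[simp] theorem coe_sc (c : Fˣ) : ((sc c : GL ι F) : Matrix ι ι F) = (c : F) • 1 :=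
  Algebra.algebraMap_eq_smul_one (c : F)

theorem sc_comm (c : Fˣ) (g : GL ι F) : sc c * g = g * sc c :=
  Units.ext (Algebra.commutes (c : F) (g : Matrix ι ι F))

theorem eq_sc_of_coe [Nonempty ι] {g : GL ι F} {c : F} (h : (g : Matrix ι ι F) = c • 1) :
    ∃ u : Fˣ, (u : F) = c ∧ g = sc u := by
  have hc : c ≠ 0 := fun h0 => g.ne_zero (by rw [h, h0, zero_smul])
  exact ⟨Units.mk0 c hc, rfl, Units.ext (by rw [coe_sc]; exact h)⟩

theorem sc_injective [Nonempty ι] : Function.Injective (sc (F := F) (ι := ι)) := fun a b h =>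
  Units.ext (smul_left_injective F (one_ne_zero (α := Matrix ι ι F)) (by
    simpa using congrArg Units.val h))

theorem ne_neg_self [Nonempty ι] (h2 : (2 : F) ≠ 0) (g : GL ι F) : g ≠ -g := fun h => g.ne_zero (by
  have e : (g : Matrix ι ι F) = -(g : Matrix ι ι F) := congrArg Units.val h
  have : (2 : F) • (g : Matrix ι ι F) = 0 := by rw [two_smul]; exact add_eq_zero_iff_eq_neg.2 e
  exact (smul_eq_zero.1 this).resolve_left h2)

/-- The properties of an absolutely irreducible 2-group of symplectic type and exponent four used below. -/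
structure Sys (R : Subgroup (GL ι F)) : Prop where
  two : (2 : F) ≠ 0
  dim : Fintype.card ι = 4
  irr : ∀ M : Matrix ι ι F, (∀ s ∈ R, M * (s : Matrix ι ι F) = (s : Matrix ι ι F) * M) → ∃ c : F, M = c • 1
  fin : Finite R
  card : Nat.card R = 16 * Nat.card (Subgroup.center R)
  comm : ∀ a ∈ R, ∀ b ∈ R, a * b = b * a ∨ a * b = -(b * a)
  sq : ∀ a ∈ R, ∀ b ∈ R, a * a * b = b * (a * a)
  pow_four : ∀ a ∈ R, a ^ 4 = 1
  neg : -1 ∈ R

theorem Sys.nonempty (h : Sys R) : Nonempty ι := Fintype.card_pos_iff.1 (by rw [h.dim]; norm_num)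

theorem Sys.central (h : Sys R) {a : GL ι F} (ha : ∀ b ∈ R, a * b = b * a) : ∃ c : Fˣ, a = sc c := by
  haveI := h.nonempty
  obtain ⟨c, hc⟩ := h.irr a fun s hs => congrArg Units.val (ha s hs)
  obtain ⟨u, -, hu⟩ := eq_sc_of_coe hc
  exact ⟨u, hu⟩

theorem Sys.of_hyp [Finite R] (two : (2 : F) ≠ 0) (dim : Fintype.card ι = 4)
    (hs : Cfsg.Geo.IsSymplecticTypeGroup 2 R) (hi : Cfsg.Geo.ActsAbsolutelyIrreducibly (Cfsg.Geo.matrixSet R))
    (hZ : (Nat.card (Subgroup.center R) = 4 ∧ Nat.card R = 2 ^ 6) ∨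
      (Nat.card (Subgroup.center R) = 2 ∧ Nat.card R = 2 ^ 5)) : Sys R := by
  haveI : Nonempty ι := Fintype.card_pos_iff.1 (by rw [dim]; norm_num)
  have irr : ∀ M : Matrix ι ι F, (∀ s ∈ R, M * (s : Matrix ι ι F) = (s : Matrix ι ι F) * M) → ∃ c : F, M = c • 1 :=
    fun M hM => hi.2 M fun s hs' => by obtain ⟨g, hg, rfl⟩ := hs'; exact hM g hg
  have h4 : ∀ x : R, x ^ 4 = 1 := fun x => by
    have := Monoid.pow_exponent_eq_one x
    rwa [hs.exponent_eq] at this
  have hscal : ∀ z : R, z ∈ Subgroup.center R → ∃ c : Fˣ, (z : GL ι F) = sc c := fun z hz => by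
    obtain ⟨c, hc⟩ := irr (z : GL ι F) fun s hs' =>
      (congrArg (fun w : R => ((w : GL ι F) : Matrix ι ι F)) (Subgroup.mem_center_iff.1 hz ⟨s, hs'⟩)).symm
    obtain ⟨u, -, hu⟩ := eq_sc_of_coe hc
    exact ⟨u, hu⟩
  have hcomm := commutator_mem_center hs.pGroup h4 hs.cyclic_of_characteristic
    (hZ.imp (fun h => h.1) (fun h => ⟨h.1, by rw [h.2]; norm_num⟩))
  have hsq := squares_central h4 hs.cyclic_of_characteristic (hZ.imp (fun h => h.1) (fun h => h.1)) hcomm
  have hsq' : ∀ a ∈ R, ∀ b ∈ R, a * a * b = b * (a * a) := fun a ha b hb => by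
    have := congrArg Subtype.val (Subgroup.mem_center_iff.1 (hsq ⟨a, ha⟩) ⟨b, hb⟩)
    simp only [pow_two, Subgroup.coe_mul] at this
    exact this.symm
  have hdi : ∀ a ∈ R, ∀ b ∈ R, a * b = b * a ∨ a * b = -(b * a) := by
    intro a ha b hb
    obtain ⟨c, hc⟩ := hscal _ (hcomm ⟨a, ha⟩ ⟨b, hb⟩)
    simp only [Subgroup.coe_mul, InvMemClass.coe_inv] at hc
    have e : a * b = sc c * (b * a) := by rw [← hc]; group
    have hc2 : c * c = 1 := by
      apply sc_injective (ι := ι)
      have h1 : a * a * b = b * (a * a) :=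
        hsq' a ha b hb
      have h2 : a * a * b = sc (c * c) * (b * (a * a)) := by
        calc a * a * b = a * (a * b) := mul_assoc ..
          _ = a * sc c * (b * a) := by rw [e, mul_assoc]
          _ = sc c * (a * b) * a := by rw [← sc_comm]; group
          _ = sc c * (sc c * (b * a)) * a := by rw [e]
          _ = _ := by rw [map_mul]; group
      rw [h1] at h2
      rw [map_one]
      exact mul_eq_right.1 h2.symm
    rcases mul_self_eq_one_iff.1 (congrArg Units.val hc2) with h | h
    · left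
      rw [e, show c = 1 from Units.ext h, map_one, one_mul]
    · right
      refine e.trans (Units.ext ?_)
      rw [Units.val_mul, coe_sc, h, Units.val_neg]
      simp
  refine ⟨two, dim, irr, inferInstance, ?_, hdi, fun a ha b hb => ?_, fun a ha => ?_, ?_⟩
  · rcases hZ with h | h <;> rw [h.1, h.2] <;> norm_num
  · exact hsq' a ha b hb
  · exact congrArg Subtype.val (h4 ⟨a, ha⟩)
  · by_contra hneg
    have hall : Subgroup.center R = ⊤ := by
      refine eq_top_iff.2 fun x _ => Subgroup.mem_center_iff.2 fun y => Subtype.ext ?_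
      rcases hdi y y.2 x x.2 with h | h
      · exact h
      · refine absurd ?_ hneg
        have : (-1 : GL ι F) = (y : GL ι F) * x * (y : GL ι F)⁻¹ * (x : GL ι F)⁻¹ := by
          rw [h]
          simp [mul_assoc]
        rw [this]
        exact mul_mem (mul_mem (mul_mem y.2 x.2) (inv_mem y.2)) (inv_mem x.2)
    rw [hall, Subgroup.card_top] at hZ
    omega

/-- Standard generators: two commuting pairs of anticommuting elements. -/
structure Frame (R : Subgroup (GL ι F)) where
  a : GL ι F
  b : GL ι F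
  c : GL ι F
  d : GL ι F
  ha : a ∈ R
  hb : b ∈ R
  hc : c ∈ R
  hd : d ∈ R
  aa : a * a = 1
  bb : b * b = 1
  cc : c * c = -1
  dd : d * d = -1
  ba : b * a = -(a * b)
  dc : d * c = -(c * d)
  ca : c * a = a * c
  cb : c * b = b * c
  da : d * a = a * d
  db : d * b = b * d

/-- Elements of `R` commuting with `g`. -/
def Cs (R : Subgroup (GL ι F)) (g : GL ι F) : Subgroup R :=
  (Subgroup.centralizer ({g} : Set (GL ι F))).subgroupOf R

theorem mem_Cs {g : GL ι F} {u : R} : u ∈ Cs R g ↔ (u : GL ι F) * g = g * u := by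
  rw [Cs, Subgroup.mem_subgroupOf, Subgroup.mem_centralizer_singleton_iff]

theorem Sys.index_Cs (h : Sys R) {g : GL ι F} (hg : g ∈ R) : (Cs R g).index ≤ 2 := by
  by_cases hall : Cs R g = ⊤
  · rw [hall, Subgroup.index_top]; norm_num
  · obtain ⟨w, hw⟩ : ∃ w, w ∉ Cs R g := by
      by_contra! hh
      exact hall (eq_top_iff.2 fun u _ => hh u)
    have hanti : ∀ u : R, u ∉ Cs R g → (u : GL ι F) * g = -(g * u) := fun u hu =>
      (h.comm u u.2 g hg).resolve_left (fun e => hu (mem_Cs.2 e))
    have : (Cs R g).index = 2 := Subgroup.index_eq_two_iff.2 ⟨w, fun u => by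
      by_cases hu : u ∈ Cs R g
      · exact Or.inr ⟨hu, fun hh => hw (by have := mul_mem (inv_mem hu) hh; rwa [inv_mul_cancel_left] at this)⟩
      · refine Or.inl ⟨mem_Cs.2 ?_, hu⟩
        rw [Subgroup.coe_mul, mul_assoc, hanti w hw, mul_neg, ← mul_assoc, hanti u hu, neg_mul, neg_neg, mul_assoc]⟩
    omega

theorem Sys.exists_noncentral (h : Sys R) {g g' : GL ι F} (hg : g ∈ R) (hg' : g' ∈ R) :
    ∃ y ∈ R, y * g = g * y ∧ y * g' = g' * y ∧ ¬ ∀ b ∈ R, y * b = b * y := by
  haveI := h.fin
  by_contra! hh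
  have hle : Cs R g ⊓ Cs R g' ≤ Subgroup.center R := fun u hu => Subgroup.mem_center_iff.2 fun v =>
    Subtype.ext (hh u u.2 (mem_Cs.1 hu.1) (mem_Cs.1 hu.2) v v.2).symm
  have h1 := Subgroup.card_le_of_le hle
  have h2 := Subgroup.index_inf_le (H := Cs R g) (K := Cs R g')
  have h3 := h.index_Cs hg
  have h4 := h.index_Cs hg'
  have h5 := Subgroup.card_mul_index (Cs R g ⊓ Cs R g')
  rw [h.card] at h5
  have h6 : 0 < Nat.card (Subgroup.center R) := Nat.card_pos
  have : (Cs R g ⊓ Cs R g').index ≤ 4 := h2.trans (Nat.mul_le_mul h3 h4)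
  nlinarith

theorem Sys.anti (h : Sys R) {a : GL ι F} (ha : a ∈ R) (hn : ¬ ∀ b ∈ R, a * b = b * a) :
    ∃ b ∈ R, b * a = -(a * b) := by
  by_contra! hh
  exact hn fun b hb => ((h.comm b hb a ha).resolve_right (hh b hb)).symm

theorem Sys.exists_involution (h : Sys R)
    (hsq : ∀ x ∈ R, (¬ ∀ b ∈ R, x * b = b * x) → x * x = 1 ∨ x * x = -1) :
    ∃ a ∈ R, a * a = 1 ∧ ¬ ∀ b ∈ R, a * b = b * a := by
  obtain ⟨x, hx, -, -, hxn⟩ := h.exists_noncentral h.neg h.neg
  rcases hsq x hx hxn with hx1 | hx1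
  · exact ⟨x, hx, hx1, hxn⟩
  obtain ⟨b, hb, hbx⟩ := h.anti hx hxn
  obtain ⟨y, hy, hyx, hyb, hyn⟩ := h.exists_noncentral hx hb
  rcases hsq y hy hyn with hy1 | hy1
  · exact ⟨y, hy, hy1, hyn⟩
  haveI := h.nonempty
  refine ⟨x * y, mul_mem hx hy, ?_, fun hc => ?_⟩
  · rw [show x * y * (x * y) = x * (y * x) * y by group, hyx]
    rw [show x * (x * y) * y = x * x * (y * y) by group, hx1, hy1, neg_mul, one_mul, neg_neg]
  · have := hc b hb
    rw [mul_assoc, hyb, ← mul_assoc b x y, hbx, neg_mul, ← mul_assoc] at this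
    exact ne_neg_self h.two _ this

theorem Sys.exists_frame (h : Sys R)
    (halt : (∃ i ∈ R, (i : GL ι F) * i = -1 ∧ ∀ g, i * g = g * i) ∨
      ∀ A : Subgroup R, IsMulCommutative A → (∀ x ∈ A, x * x = 1) → Nat.card A < 8) :
    Nonempty (Frame R) := by
  haveI := h.nonempty
  haveI := h.fin
  have hsq : ∀ x ∈ R, (¬ ∀ b ∈ R, x * b = b * x) → x * x = 1 ∨ x * x = -1 := fun x hx _ => by
    obtain ⟨u, hu⟩ := h.central (a := x * x) fun b hb => h.sq x hx b hb
    have e : u * u = 1 := sc_injective (ι := ι) (by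
      rw [map_mul, map_one, ← hu, ← h.pow_four x hx]; simp [pow_succ, mul_assoc])
    rcases mul_self_eq_one_iff.1 (congrArg Units.val e) with he | he
    · exact Or.inl (Units.ext (by rw [hu, coe_sc, he, one_smul, Units.val_one]))
    · exact Or.inr (Units.ext (by rw [hu, coe_sc, he, Units.val_neg, Units.val_one, neg_one_smul]))
  obtain ⟨a, ha, haa, han⟩ := h.exists_involution hsq
  obtain ⟨b, hb, hbb, hba⟩ : ∃ b ∈ R, b * b = 1 ∧ b * a = -(a * b) := by
    obtain ⟨b, hb, hba⟩ := h.anti ha han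
    have hbn : ¬ ∀ u ∈ R, b * u = u * b := fun hc => by
      rw [hc a ha] at hba
      exact ne_neg_self h.two _ hba
    rcases hsq b hb hbn with hb1 | hb1
    · exact ⟨b, hb, hb1, hba⟩
    · refine ⟨a * b, mul_mem ha hb, ?_, ?_⟩
      · rw [show a * b * (a * b) = a * (b * a) * b by group, hba]
        rw [mul_neg, neg_mul, show a * (a * b) * b = a * a * (b * b) by group, haa, hb1, one_mul, neg_neg]
      · rw [show a * b * a = a * (b * a) by group, hba, mul_neg]
  obtain ⟨c, hc, hca, hcb, hcn⟩ := h.exists_noncentral ha hb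
  obtain ⟨d, hd, hdc, hda, hdb⟩ : ∃ d ∈ R, d * c = -(c * d) ∧ d * a = a * d ∧ d * b = b * d := by
    obtain ⟨u, hu, huc⟩ := h.anti hc hcn
    -- correct `u` by `a` and `b`
    obtain ⟨v, hv, hvc, hva⟩ : ∃ v ∈ R, v * c = -(c * v) ∧ v * a = a * v := by
      rcases h.comm u hu a ha with e | e
      · exact ⟨u, hu, huc, e⟩
      · refine ⟨u * b, mul_mem hu hb, ?_, ?_⟩
        · rw [mul_assoc, ← hcb, ← mul_assoc, huc, neg_mul, mul_assoc]
        · rw [mul_assoc, hba, mul_neg, ← mul_assoc, e, neg_mul, neg_neg, mul_assoc]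
    rcases h.comm v hv b hb with e | e
    · exact ⟨v, hv, hvc, hva, e⟩
    · refine ⟨v * a, mul_mem hv ha, ?_, ?_, ?_⟩
      · rw [mul_assoc, ← hca, ← mul_assoc, hvc, neg_mul, mul_assoc]
      · rw [hva, mul_assoc, hva]
      · rw [mul_assoc, show a * b = -(b * a) by rw [hba, neg_neg], mul_neg, ← mul_assoc, e, neg_mul, neg_neg, mul_assoc]
  have hdn : ¬ ∀ u ∈ R, d * u = u * d := fun hc' => by
    rw [hc' c hc] at hdc
    exact ne_neg_self h.two _ hdc
  rcases halt with ⟨i, hi, hii, hic⟩ | halt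
  · have fix : ∀ x ∈ R, (¬ ∀ u ∈ R, x * u = u * x) →
        ∃ w, (∀ g, w * g = g * w) ∧ w ∈ R ∧ (w * x) * (w * x) = -1 := fun x hx hxn => by
      rcases hsq x hx hxn with e | e
      · exact ⟨i, hic, hi, by rw [show i * x * (i * x) = i * (x * i) * x by group, ← hic x,
          show i * (i * x) * x = i * i * (x * x) by group, hii, e, mul_one]⟩
      · exact ⟨1, fun g => by simp, one_mem R, by rw [one_mul, e]⟩
    obtain ⟨w, hwc, hwR, hcc⟩ := fix c hc hcn
    obtain ⟨w', hwc', hwR', hdd⟩ := fix d hd hdn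
    have key : ∀ (z x g : GL ι F), (∀ u, z * u = u * z) → x * g = g * x → z * x * g = g * (z * x) := fun z x g hz hxg => by
      rw [mul_assoc, hxg, ← mul_assoc, hz g, mul_assoc]
    refine ⟨⟨a, b, w * c, w' * d, ha, hb, mul_mem hwR hc, mul_mem hwR' hd, haa, hbb, hcc, hdd, hba, ?_,
      key w c a hwc hca, key w c b hwc hcb, key w' d a hwc' hda, key w' d b hwc' hdb⟩⟩
    rw [show w' * d * (w * c) = w' * (d * w) * c by group, ← hwc d,
      show w' * (w * d) * c = w' * w * (d * c) by group, hdc, mul_neg, hwc' w,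
      show w * w' * (c * d) = w * (w' * c) * d by group, hwc' c]
    congr 1
    group
  · have no : ∀ u ∈ R, u * a = a * u → (∃ v ∈ R, v * a = a * v ∧ v * u = -(u * v)) → u * u ≠ 1 := by
      intro u hu hua ⟨v, hv, hva, hvu⟩ huu
      let m : R := ⟨-1, h.neg⟩
      let a' : R := ⟨a, ha⟩
      let u' : R := ⟨u, hu⟩
      set A := Subgroup.closure ({m, a', u'} : Set R)
      have hm : ∀ x : R, m * x = x * m := fun x => Subtype.ext (by simp [m])
      have hco : IsMulCommutative A := Subgroup.isMulCommutative_closure fun x hx y hy => by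
        have hau : a' * u' = u' * a' := Subtype.ext hua.symm
        simp only [Set.mem_insert_iff, Set.mem_singleton_iff] at hx hy
        rcases hx with rfl | rfl | rfl <;> rcases hy with rfl | rfl | rfl <;>
          first | rfl | exact hm _ | exact (hm _).symm | exact hau | exact hau.symm
      have hinv : ∀ x ∈ A, x * x = 1 := fun x hx => by
        induction hx using Subgroup.closure_induction with
        | mem y hy =>
          simp only [Set.mem_insert_iff, Set.mem_singleton_iff] at hy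
          rcases hy with rfl | rfl | rfl <;> apply Subtype.ext <;> simp [m, a', u', haa, huu]
        | one => rw [one_mul]
        | mul y z hy hz ey ez =>
          have : z * y = y * z := congrArg Subtype.val (hco.is_comm.comm ⟨z, hz⟩ ⟨y, hy⟩)
          rw [show y * z * (y * z) = y * (z * y) * z by group, this,
            show y * (y * z) * z = y * y * (z * z) by group, ey, ez, mul_one]
        | inv y _ ey => rw [← _root_.mul_inv_rev, ey, inv_one]
      have h2 : 2 ≤ Nat.card (Subgroup.closure ({m} : Set R)) := by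
        rw [← Subgroup.zpowers_eq_closure, Nat.card_zpowers]
        have hm1 : orderOf m ≠ 1 := fun e => ne_neg_self h.two 1 (congrArg Subtype.val (orderOf_eq_one_iff.1 e)).symm
        have := orderOf_pos m
        omega
      have strict : ∀ {H K : Subgroup R}, H ≤ K → ∀ x ∈ K, x ∉ H → 2 * Nat.card H ≤ Nat.card K := by
        intro H K hHK x hx hx'
        obtain ⟨n, hn⟩ := Subgroup.card_dvd_of_le hHK
        rcases Nat.lt_or_ge n 2 with hn2 | hn2
        · exfalso
          apply hx'
          have : H = K := Subgroup.eq_of_le_of_card_ge hHK (by rw [hn]; nlinarith)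
          rw [this]; exact hx
        · rw [hn]; nlinarith
      have s1 := strict (H := Subgroup.closure ({m} : Set R)) (K := Subgroup.closure ({m, a'} : Set R))
        (Subgroup.closure_mono (by simp)) a' (Subgroup.subset_closure (by simp)) fun hmem => by
          have : Subgroup.closure ({m} : Set R) ≤ Subgroup.center R := (Subgroup.closure_le _).2 (by
            rintro _ rfl
            exact Subgroup.mem_center_iff.2 fun x => (hm x).symm)
          exact han fun b hb => (congrArg Subtype.val (Subgroup.mem_center_iff.1 (this hmem) ⟨b, hb⟩)).symm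
      have s2 := strict (H := Subgroup.closure ({m, a'} : Set R)) (K := A)
        (Subgroup.closure_mono (by simp [Set.insert_subset_iff])) u' (Subgroup.subset_closure (by simp)) fun hmem => by
          have : Subgroup.closure ({m, a'} : Set R) ≤ Cs R v := (Subgroup.closure_le _).2 (by
            rintro _ (rfl | rfl)
            · exact mem_Cs.2 (by simp [m])
            · exact mem_Cs.2 hva.symm)
          have e : u * v = v * u := mem_Cs.1 (this hmem)
          rw [← e] at hvu
          exact ne_neg_self h.two _ hvu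
      have := halt A hco hinv
      omega
    have hcd : c * d = -(d * c) := by rw [hdc, neg_neg]
    exact ⟨⟨a, b, c, d, ha, hb, hc, hd, haa, hbb,
      (hsq c hc hcn).resolve_left (no c hc hca ⟨d, hd, hda, hdc⟩),
      (hsq d hd hdn).resolve_left (no d hd hda ⟨c, hc, hca, hcd⟩), hba, hdc, hca, hcb, hda, hdb⟩⟩

end CfsgLib.PauliFour
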