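import Mathlib

/-! Eigenvalues of four-by-four matrices with a scalar power. -/

set_option autoImplicit false

namespace CfsgLib.PauliFour

open Matrix Polynomial

variable {F : Type*} [Field F] {ι : Type} [Fintype ι] [DecidableEq ι]

/-- The eigenvalues over an algebraic closure. -/
noncomputable def rts (M : Matrix ι ι F) : Multiset (AlgebraicClosure F) :=
  (M.map (algebraMap F (AlgebraicClosure F))).charpoly.roots

theorem rts_card (M : Matrix ι ι F) : Multiset.card (rts M) = Fintype.card ι := by
  rw [rts, IsAlgClosed.card_roots_eq_natDegree, Matrix.charpoly_natDegree_eq_dim]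

theorem rts_sum (M : Matrix ι ι F) : (rts M).sum = algebraMap F (AlgebraicClosure F) M.trace := by
  rw [rts, ← Matrix.trace_eq_sum_roots_charpoly_of_splits (IsAlgClosed.splits _)]
  simp [Matrix.trace, map_sum]

theorem rts_prod (M : Matrix ι ι F) : (rts M).prod = algebraMap F (AlgebraicClosure F) M.det := by
  rw [rts, ← Matrix.det_eq_prod_roots_charpoly_of_splits (IsAlgClosed.splits _)]
  exact (RingHom.map_det _ _).symm

theorem charpoly_eq_of_rts {M N : Matrix ι ι F} (h : rts M = rts N) : M.charpoly = N.charpoly := by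
  apply Polynomial.map_injective _ (algebraMap F (AlgebraicClosure F)).injective
  rw [← Matrix.charpoly_map, ← Matrix.charpoly_map,
    (IsAlgClosed.splits _).eq_prod_roots_of_monic (Matrix.charpoly_monic _),
    (IsAlgClosed.splits (N.map _).charpoly).eq_prod_roots_of_monic (Matrix.charpoly_monic _)]
  exact congrArg Multiset.prod (congrArg (Multiset.map fun a => X - C a) h)

theorem rts_pow {M : Matrix ι ι F} {r : ℕ} {z : F} (hM : M ^ r = z • 1) {t : AlgebraicClosure F} (ht : t ∈ rts M) :
    t ^ r = algebraMap F (AlgebraicClosure F) z := by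
  rcases isEmpty_or_nonempty ι with hι | hι
  · have := rts_card M
    rw [Fintype.card_eq_zero, Multiset.card_eq_zero] at this
    rw [this] at ht
    simp at ht
  rw [rts, mem_roots (Matrix.charpoly_monic _).ne_zero, ← Matrix.mem_spectrum_iff_isRoot_charpoly] at ht
  have h := spectrum.subset_polynomial_aeval (M.map (algebraMap F (AlgebraicClosure F))) (X ^ r) ⟨t, ht, rfl⟩
  rw [map_pow, aeval_X, ← Matrix.map_pow, hM] at h
  rw [show (z • (1 : Matrix ι ι F)).map (algebraMap F (AlgebraicClosure F)) =
    algebraMap (AlgebraicClosure F) (Matrix ι ι (AlgebraicClosure F)) (algebraMap F (AlgebraicClosure F) z) by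
      rw [Algebra.algebraMap_eq_smul_one]
      ext i j
      simp [Matrix.one_apply, apply_ite (algebraMap F (AlgebraicClosure F))]] at h
  rw [spectrum.scalar_eq, Set.mem_singleton_iff] at h
  simpa using h

theorem rts_frobenius [Fintype F] (p : ℕ) [Fact p.Prime] [CharP F p] {e : ℕ} (hF : Fintype.card F = p ^ e)
    (M : Matrix ι ι F) : (rts M).map (fun t => t ^ Fintype.card F) = rts M := by
  haveI : CharP (AlgebraicClosure F) p :=
    charP_of_injective_algebraMap (algebraMap F (AlgebraicClosure F)).injective p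
  set fr : AlgebraicClosure F →+* AlgebraicClosure F := iterateFrobenius _ p e
  have hfr : ∀ t, fr t = t ^ Fintype.card F := fun t => by rw [hF]; exact iterateFrobenius_def p e t
  have he : (M.map (algebraMap F (AlgebraicClosure F))).charpoly.map fr =
      (M.map (algebraMap F (AlgebraicClosure F))).charpoly := by
    rw [Matrix.charpoly_map, Polynomial.map_map]
    congr 1
    ext x
    rw [RingHom.comp_apply, hfr, ← map_pow, FiniteField.pow_card]
  conv_rhs => rw [rts, ← he, (IsAlgClosed.splits _).roots_map]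
  exact (Multiset.map_congr rfl fun t _ => (hfr t).symm)

theorem scalar_of_single {M : Matrix ι ι F} {r : ℕ} (hr : (r : F) ≠ 0) {z t : F} (hz : z ≠ 0)
    (hM : M ^ r = z • 1) (ht : ∀ s ∈ rts M, s = algebraMap F (AlgebraicClosure F) t) : M = t • 1 := by
  have hcp : M.charpoly = (X - C t) ^ Fintype.card ι := by
    apply Polynomial.map_injective _ (algebraMap F (AlgebraicClosure F)).injective
    rw [← Matrix.charpoly_map, (IsAlgClosed.splits _).eq_prod_roots_of_monic (Matrix.charpoly_monic _)]
    rw [show (M.map (algebraMap F (AlgebraicClosure F))).charpoly.roots = rts M from rfl,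
      Multiset.eq_replicate.2 ⟨rts_card M, ht⟩, Multiset.map_replicate, Multiset.prod_replicate]
    simp
  have h1 : minpoly F M ∣ X ^ r - C z := minpoly.dvd F M (by
    rw [map_sub, map_pow, aeval_X, aeval_C, hM, Algebra.algebraMap_eq_smul_one, sub_self])
  have hsq : Squarefree (minpoly F M) :=
    ((Polynomial.separable_X_pow_sub_C z hr hz).squarefree).squarefree_of_dvd h1
  have h2 : minpoly F M ∣ (X - C t) ^ Fintype.card ι := hcp ▸ Matrix.minpoly_dvd_charpoly M
  have h3 : minpoly F M ∣ X - C t := by
    rcases Nat.eq_zero_or_pos (Fintype.card ι) with h0 | h0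
    · rw [h0, pow_zero] at h2; exact h2.trans (one_dvd _)
    · exact (hsq.dvd_pow_iff_dvd h0.ne').1 h2
  have := minpoly.dvd_iff.1 h3
  rwa [map_sub, aeval_X, aeval_C, Algebra.algebraMap_eq_smul_one, sub_eq_zero] at this

theorem count_le_map {α β : Type*} [DecidableEq α] [DecidableEq β] (f : α → β) (a : α) (s : Multiset α) :
    s.count a ≤ (s.map f).count (f a) := by
  rw [Multiset.count_map, Multiset.count_eq_card_filter_eq]
  exact Multiset.card_le_card (Multiset.monotone_filter_right s fun b hb => congrArg f hb)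

variable (h2 : (2 : F) ≠ 0) (hd : Fintype.card ι = 4)
include h2 hd

theorem square_shape {M : Matrix ι ι F} {z : F} (hz : z ≠ 0) (hM : M ^ 2 = z • 1) (hns : ∀ t : F, M ≠ t • 1) :
    ∃ η : AlgebraicClosure F, η ^ 2 = algebraMap F (AlgebraicClosure F) z ∧
      ((rts M = {η, η, η, -η}) ∨ rts M = {η, η, -η, -η}) := by
  classical
  have h2' : (2 : AlgebraicClosure F) ≠ 0 := by
    rw [show (2 : AlgebraicClosure F) = algebraMap F _ 2 by rw [map_ofNat], ne_eq,
      map_eq_zero]
    exact h2
  obtain ⟨η, hη⟩ := IsAlgClosed.exists_pow_nat_eq (algebraMap F (AlgebraicClosure F) z) (show 0 < 2 by norm_num)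
  have hη0 : η ≠ 0 := fun h => by
    rw [h, zero_pow two_ne_zero, eq_comm, map_eq_zero] at hη; exact hz hη
  have hne : η ≠ -η := fun h => hη0 (by
    have : (2 : AlgebraicClosure F) * η = 0 := by linear_combination h
    exact (mul_eq_zero.1 this).resolve_left h2')
  have hall : ∀ t ∈ rts M, t = η ∨ t = -η := fun t ht =>
    eq_or_eq_neg_of_sq_eq_sq _ _ ((rts_pow hM ht).trans hη.symm)
  set a := (rts M).count η with ha
  have hS : rts M = Multiset.replicate a η + Multiset.replicate (4 - a) (-η) := by
    have hle : a ≤ 4 := hd ▸ rts_card M ▸ Multiset.count_le_card η (rts M)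
    have hf : (rts M).filter (fun t => t = η) = Multiset.replicate a η := Multiset.filter_eq' _ _
    have hg : (rts M).filter (fun t => ¬ t = η) = Multiset.replicate (4 - a) (-η) := by
      refine Multiset.eq_replicate.2 ⟨?_, fun t ht => ?_⟩
      · have := congrArg Multiset.card (Multiset.filter_add_not (fun t => t = η) (rts M))
        rw [Multiset.card_add, hf, Multiset.card_replicate, rts_card, hd] at this
        omega
      · rw [Multiset.mem_filter] at ht
        exact (hall t ht.1).resolve_left ht.2
    rw [← hf, ← hg, Multiset.filter_add_not]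
  -- a single eigenvalue gives a scalar
  have hsingle : ∀ s : AlgebraicClosure F, (∀ t ∈ rts M, t = s) → False := by
    intro s hs
    have hsum := rts_sum M
    rw [Multiset.eq_replicate.2 ⟨rts_card M, hs⟩, Multiset.sum_replicate, hd, nsmul_eq_mul] at hsum
    have h4 : (4 : F) ≠ 0 := by rw [show (4 : F) = 2 * 2 by norm_num]; exact mul_ne_zero h2 h2
    refine hns (M.trace / 4) (scalar_of_single (r := 2) (by exact_mod_cast h2) hz hM fun t ht => ?_)
    rw [hs t ht, map_div₀, ← hsum, map_ofNat, Nat.cast_ofNat, mul_div_cancel_left₀]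
    rw [show (4 : AlgebraicClosure F) = algebraMap F _ 4 by rw [map_ofNat]]
    exact (_root_.map_ne_zero _).2 h4
  have hle : a ≤ 4 := hd ▸ rts_card M ▸ Multiset.count_le_card η (rts M)
  interval_cases a
  · exact (hsingle (-η) fun t ht => by rw [hS] at ht; simpa using ht).elim
  · refine ⟨-η, by rw [neg_sq, hη], Or.inl (hS.trans ?_)⟩
    simp only [neg_neg]
    show (η ::ₘ {-η, -η, -η} : Multiset (AlgebraicClosure F)) = (-η) ::ₘ (-η) ::ₘ (-η) ::ₘ {η}
    rw [Multiset.insert_eq_cons, Multiset.insert_eq_cons, Multiset.cons_swap η, Multiset.cons_swap η]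
    exact congrArg _ (congrArg _ (Multiset.pair_comm _ _))
  · exact ⟨η, hη, Or.inr (hS.trans rfl)⟩
  · exact ⟨η, hη, Or.inl (hS.trans rfl)⟩
  · exact (hsingle η fun t ht => by rw [hS] at ht; simpa using ht).elim

theorem square_charpoly {M N : Matrix ι ι F} {z : F} (hz : z ≠ 0) (hM : M ^ 2 = z • 1) (hN : N ^ 2 = z • 1)
    (hMs : ∀ t : F, M ≠ t • 1) (hNs : ∀ t : F, N ≠ t • 1) (ht : M.trace = N.trace) : M.charpoly = N.charpoly := by
  apply charpoly_eq_of_rts
  have h2' : (2 : AlgebraicClosure F) ≠ 0 := by
    rw [show (2 : AlgebraicClosure F) = algebraMap F _ 2 by rw [map_ofNat], ne_eq, map_eq_zero]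
    exact h2
  obtain ⟨η, hη, e1⟩ := square_shape h2 hd hz hM hMs
  obtain ⟨θ, hθ, e2⟩ := square_shape h2 hd hz hN hNs
  have hη0 : η ≠ 0 := fun h => by rw [h, zero_pow two_ne_zero, eq_comm, map_eq_zero] at hη; exact hz hη
  have hθ0 : θ ≠ 0 := fun h => by rw [h, zero_pow two_ne_zero, eq_comm, map_eq_zero] at hθ; exact hz hθ
  have hs : (rts M).sum = (rts N).sum := by rw [rts_sum, rts_sum, ht]
  classical
  rcases eq_or_eq_neg_of_sq_eq_sq θ η (hθ.trans hη.symm) with hh | hh <;> rw [hh] at e2 <;>
    rcases e1 with e1 | e1 <;> rcases e2 with e2 | e2 <;> rw [e1, e2] at hs ⊢ <;>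
    simp only [Multiset.insert_eq_cons, Multiset.sum_cons, Multiset.sum_singleton] at hs <;>
    first
      | rfl
      | (exfalso; exact hη0 ((mul_eq_zero.1 (show (2 : AlgebraicClosure F) * η = 0 by linear_combination hs)).resolve_left h2'))
      | (exfalso; exact hη0 ((mul_eq_zero.1 (show (2 : AlgebraicClosure F) * η = 0 by linear_combination -hs)).resolve_left h2'))
      | (exfalso; exact hη0 ((mul_eq_zero.1 ((mul_assoc _ _ _).trans (show (2 : AlgebraicClosure F) * 2 * η = 0 by linear_combination hs))).resolve_left h2'))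
      | (exfalso; exact hη0 ((mul_eq_zero.1 (show (2 * 2 : AlgebraicClosure F) * η = 0 by linear_combination hs)).resolve_left (mul_ne_zero h2' h2')))
      | (simp only [Multiset.insert_eq_cons, neg_neg]
         rw [Multiset.cons_swap, Multiset.cons_swap η]
         first
           | rfl
           | (refine Multiset.ext.2 fun x => ?_; simp [Multiset.count_cons, Multiset.count_singleton]; omega))

theorem square_facts {M : Matrix ι ι F} {z : F} (hz : z ≠ 0) (hM : M ^ 2 = z • 1) (hns : ∀ t : F, M ≠ t • 1) :
    (M.trace = 0 ∧ M.det = z ^ 2) ∨ (∃ e : F, e ^ 2 = z ∧ M.trace = 2 * e ∧ M.det = -z ^ 2) := by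
  obtain ⟨η, hη, e | e⟩ := square_shape h2 hd hz hM hns
  · right
    have hs := rts_sum M
    have hp := rts_prod M
    rw [e] at hs hp
    simp only [Multiset.insert_eq_cons, Multiset.sum_cons, Multiset.sum_singleton, Multiset.prod_cons,
      Multiset.prod_singleton] at hs hp
    have he : algebraMap F (AlgebraicClosure F) (M.trace / 2) = η := by
      rw [map_div₀, ← hs, map_ofNat, div_eq_iff]
      · ring
      · rw [show (2 : AlgebraicClosure F) = algebraMap F _ 2 by rw [map_ofNat]]
        exact (_root_.map_ne_zero _).2 h2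
    refine ⟨M.trace / 2, (algebraMap F (AlgebraicClosure F)).injective (by rw [map_pow, he, hη]), by field_simp,
      (algebraMap F (AlgebraicClosure F)).injective ?_⟩
    rw [← hp, map_neg, map_pow, ← hη]; ring
  · left
    have hs := rts_sum M
    have hp := rts_prod M
    rw [e] at hs hp
    simp only [Multiset.insert_eq_cons, Multiset.sum_cons, Multiset.sum_singleton, Multiset.prod_cons,
      Multiset.prod_singleton] at hs hp
    refine ⟨(algebraMap F (AlgebraicClosure F)).injective (by rw [← hs, map_zero]; ring),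
      (algebraMap F (AlgebraicClosure F)).injective ?_⟩
    rw [← hp, map_pow, ← hη]; ring

theorem cube_charpoly (h3 : (3 : F) ≠ 0) {M N : Matrix ι ι F} (hM : M ^ 3 = 1) (hN : N ^ 3 = 1)
    (iM : (rts M).map (fun t => t⁻¹) = rts M) (iN : (rts N).map (fun t => t⁻¹) = rts N) :
    (M.trace = 4 → M = 1) ∧ (M.trace = 4 ∨ M.trace = 1 ∨ M.trace = -2) ∧
      (M.trace = N.trace → M.charpoly = N.charpoly) := by
  classical
  haveI : NeZero ((3 : ℕ) : AlgebraicClosure F) := ⟨by
    rw [← map_natCast (algebraMap F (AlgebraicClosure F))]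
    exact (_root_.map_ne_zero _).2 (by exact_mod_cast h3)⟩
  obtain ⟨ω, hω⟩ := HasEnoughRootsOfUnity.exists_primitiveRoot (AlgebraicClosure F) 3
  have hω0 : ω ≠ 0 := hω.ne_zero (by norm_num)
  have hω1 : ω ≠ 1 := hω.ne_one (by norm_num)
  have hsum : 1 + ω + ω ^ 2 = 0 := by
    have := hω.geom_sum_eq_zero (by norm_num)
    simpa [Finset.sum_range_succ] using this
  have hinv : ω⁻¹ = ω ^ 2 := inv_eq_of_mul_eq_one_right (by rw [← pow_succ', hω.pow_eq_one])
  have hω21 : ω ^ 2 ≠ 1 := fun h => by rw [← hinv, inv_eq_one] at h; exact hω1 h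
  have hωω : ω ^ 2 ≠ ω := fun h => hω1 (mul_left_cancel₀ hω0 (by rw [mul_one, ← pow_two, h]))
  have shape : ∀ (A : Matrix ι ι F), A ^ 3 = 1 → (rts A).map (fun t => t⁻¹) = rts A →
      ∃ b : ℕ, b ≤ 2 ∧ rts A = Multiset.replicate (4 - 2 * b) 1 + Multiset.replicate b ω + Multiset.replicate b (ω ^ 2) := by
    intro A hA iA
    have hmem : ∀ t ∈ rts A, t = 1 ∨ t = ω ∨ t = ω ^ 2 := fun t ht => by
      have h1 := rts_pow (z := 1) (by rw [hA, one_smul]) ht
      rw [map_one] at h1
      obtain ⟨i, hi, rfl⟩ := hω.eq_pow_of_pow_eq_one h1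
      interval_cases i
      · left; simp
      · right; left; simp
      · right; right; rfl
    have hb : (rts A).count (ω ^ 2) = (rts A).count ω := by
      conv_lhs => rw [← iA, ← hinv]
      exact Multiset.count_map_eq_count' _ _ inv_injective ω
    have hc : (rts A).count 1 + (rts A).count ω + (rts A).count (ω ^ 2) = 4 := by
      rw [← hd, ← rts_card A, ← Multiset.sum_count_eq_card (s := {1, ω, ω ^ 2}) (by simpa using hmem)]
      rw [Finset.sum_insert (by simp [hω1.symm, hω21.symm]), Finset.sum_pair hωω.symm, add_assoc]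
    refine ⟨(rts A).count ω, by omega, Multiset.ext.2 fun t => ?_⟩
    simp only [Multiset.count_add, Multiset.count_replicate]
    by_cases h : t ∈ rts A
    · rcases hmem t h with rfl | rfl | rfl
      · simp [hω1, hω21]; omega
      · simp [hω1.symm, hωω]
      · simp [hω21.symm, hωω.symm, hb]
    · rw [Multiset.count_eq_zero.2 h]
      split_ifs with h1 h2 h3 h4 h5 h6 h7 <;> subst_vars <;>
        simp_all [Multiset.count_eq_zero] <;> omega
  have tr : ∀ (A : Matrix ι ι F) (b : ℕ), b ≤ 2 →
      rts A = Multiset.replicate (4 - 2 * b) 1 + Multiset.replicate b ω + Multiset.replicate b (ω ^ 2) →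
      A.trace = 4 - 3 * (b : F) := by
    intro A b hb e
    apply (algebraMap F (AlgebraicClosure F)).injective
    rw [← rts_sum, e, Multiset.sum_add, Multiset.sum_add, Multiset.sum_replicate, Multiset.sum_replicate,
      Multiset.sum_replicate]
    simp only [nsmul_eq_mul, map_sub, map_mul, map_natCast, map_ofNat, mul_one]
    rw [Nat.cast_sub (by omega)]
    push_cast
    linear_combination (b : AlgebraicClosure F) * hsum
  obtain ⟨b, hb, eM⟩ := shape M hM iM
  have hM3 : M ^ 3 = (1 : F) • 1 := by rw [hM, one_smul]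
  refine ⟨fun h4 => ?_, ?_, fun hMN => ?_⟩
  · have hb0 : ((b : ℕ) : F) = 0 := by
      have := tr M b hb eM
      rw [h4] at this
      exact (mul_eq_zero.1 (show (3 : F) * b = 0 by linear_combination this)).resolve_left h3
    have : b = 0 := by
      interval_cases b
      · rfl
      · simp at hb0
      · exact absurd (by simpa using hb0) h2
    subst this
    rw [scalar_of_single (r := 3) (t := 1) (by exact_mod_cast h3) one_ne_zero hM3 (fun s hs => by
      rw [eM] at hs; simpa using hs), one_smul]
  · interval_cases b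
    · left; simpa using tr M 0 (by norm_num) eM
    · right; left; rw [tr M 1 (by norm_num) eM]; norm_num
    · right; right; rw [tr M 2 le_rfl eM]; norm_num
  · obtain ⟨c, hc, eN⟩ := shape N hN iN
    apply charpoly_eq_of_rts
    rw [eM, eN]
    rw [tr M b hb eM, tr N c hc eN] at hMN
    have : (b : F) = c := mul_left_cancel₀ h3 (by linear_combination -hMN)
    obtain rfl : b = c := by
      have h1 := one_ne_zero (α := F)
      interval_cases b <;> interval_cases c <;> first
        | rfl
        | (exfalso; push_cast at this; first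
            | exact h1 (by linear_combination this)
            | exact h1 (by linear_combination -this)
            | exact h2 (by linear_combination this)
            | exact h2 (by linear_combination -this))
    rfl

omit h2 in
theorem five_charpoly (h5 : (5 : F) ≠ 0) {g : ℕ} (hg : g = 2 ∨ g = 3) {M N : Matrix ι ι F} (hM : M ^ 5 = 1)
    (hN : N ^ 5 = 1) (hM1 : M ≠ 1) (hN1 : N ≠ 1) (iM : (rts M).map (fun t => t ^ g) = rts M)
    (iN : (rts N).map (fun t => t ^ g) = rts N) : M.charpoly = N.charpoly := by
  classical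
  haveI : NeZero ((5 : ℕ) : AlgebraicClosure F) := ⟨by
    rw [← map_natCast (algebraMap F (AlgebraicClosure F))]
    exact (_root_.map_ne_zero _).2 (by exact_mod_cast h5)⟩
  obtain ⟨ζ, hζ⟩ := HasEnoughRootsOfUnity.exists_primitiveRoot (AlgebraicClosure F) 5
  have hT : ∀ i j : ℕ, i < 5 → j < 5 → ζ ^ i = ζ ^ j → i = j := fun i j hi hj e => hζ.pow_inj hi hj e
  have shape : ∀ A : Matrix ι ι F, A ^ 5 = 1 → A ≠ 1 → (rts A).map (fun t => t ^ g) = rts A →
      rts A = (Multiset.range 4).map (fun i => ζ ^ (i + 1)) := by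
    intro A hA hA1 iA
    have hmem : ∀ t ∈ rts A, ∃ i < 5, t = ζ ^ i := fun t ht => by
      have h1 := rts_pow (z := 1) (by rw [hA, one_smul]) ht
      rw [map_one] at h1
      obtain ⟨i, hi, rfl⟩ := hζ.eq_pow_of_pow_eq_one h1
      exact ⟨i, hi, rfl⟩
    have hstep : ∀ i, i < 5 → (rts A).count (ζ ^ i) ≤ (rts A).count (ζ ^ (i * g % 5)) := by
      intro i _
      have e : ζ ^ (i * g % 5) = (ζ ^ i) ^ g := by
        rw [← pow_mul]
        conv_rhs => rw [← Nat.mod_add_div (i * g) 5, pow_add, pow_mul, hζ.pow_eq_one, one_pow, mul_one]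
      rw [e]
      conv_rhs => rw [← iA]
      exact count_le_map (fun t => t ^ g) (ζ ^ i) (rts A)
    have hc : ∑ i ∈ Finset.range 5, (rts A).count (ζ ^ i) = 4 := by
      rw [← hd, ← rts_card A, ← Multiset.sum_count_eq_card (s := (Finset.range 5).image (fun i => ζ ^ i))
        (by intro t ht; obtain ⟨i, hi, rfl⟩ := hmem t ht; exact Finset.mem_image.2 ⟨i, Finset.mem_range.2 hi, rfl⟩)]
      rw [Finset.sum_image fun i hi j hj e => hT i j (Finset.mem_range.1 hi) (Finset.mem_range.1 hj) e]
    simp only [Finset.sum_range_succ, Finset.sum_range_zero, zero_add] at hc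
    have hn : (rts A).count (ζ ^ 1) ≠ 0 := by
      intro h0
      apply hA1
      have := scalar_of_single (r := 5) (t := 1) (by exact_mod_cast h5) one_ne_zero (show A ^ 5 = (1 : F) • 1 by rw [hA, one_smul])
        (fun t ht => by
          obtain ⟨i, hi, rfl⟩ := hmem t ht
          have hpos : (rts A).count (ζ ^ i) ≠ 0 := Multiset.count_ne_zero.2 ht
          have s1 := hstep 1 (by norm_num)
          have s2 := hstep 2 (by norm_num)
          have s3 := hstep 3 (by norm_num)
          have s4 := hstep 4 (by norm_num)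
          rcases hg with rfl | rfl <;> simp only [Nat.reduceMul, Nat.reduceMod] at s1 s2 s3 s4 <;> interval_cases i <;>
            first
              | (rw [pow_zero]; simp; done)
              | (exfalso; simp only [pow_one] at *; omega))
      rw [this, one_smul]
    have s1 := hstep 1 (by norm_num)
    have s2 := hstep 2 (by norm_num)
    have s3 := hstep 3 (by norm_num)
    have s4 := hstep 4 (by norm_num)
    have hall : (rts A).count (ζ ^ 0) = 0 ∧ (rts A).count (ζ ^ 1) = 1 ∧ (rts A).count (ζ ^ 2) = 1 ∧
        (rts A).count (ζ ^ 3) = 1 ∧ (rts A).count (ζ ^ 4) = 1 := by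
      rcases hg with rfl | rfl <;> simp only [Nat.reduceMul, Nat.reduceMod] at s1 s2 s3 s4 <;> simp only [pow_one] at * <;> omega
    have hinj : Multiset.Nodup ((Multiset.range 4).map fun i => ζ ^ (i + 1)) :=
      (Multiset.nodup_range 4).map_on fun i hi j hj e => by
        have := hT _ _ (by rw [Multiset.mem_range] at hi; omega) (by rw [Multiset.mem_range] at hj; omega) e
        omega
    refine Multiset.ext.2 fun t => ?_
    rw [Multiset.count_eq_of_nodup hinj]
    by_cases ht : t ∈ rts A
    · obtain ⟨i, hi, rfl⟩ := hmem t ht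
      have hi0 : i ≠ 0 := by
        rintro rfl
        exact Multiset.count_ne_zero.2 ht hall.1
      rw [if_pos (Multiset.mem_map.2 ⟨i - 1, Multiset.mem_range.2 (by omega), by rw [Nat.sub_add_cancel (by omega)]⟩)]
      obtain ⟨-, a1, a2, a3, a4⟩ := hall
      interval_cases i
      · exact absurd rfl hi0
      all_goals assumption
    · rw [Multiset.count_eq_zero.2 ht, if_neg]
      intro hm
      obtain ⟨i, hi, rfl⟩ := Multiset.mem_map.1 hm
      rw [Multiset.mem_range] at hi
      apply ht
      rw [← Multiset.count_ne_zero]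
      obtain ⟨-, a1, a2, a3, a4⟩ := hall
      interval_cases i
      · show (rts A).count (ζ ^ 1) ≠ 0; omega
      · show (rts A).count (ζ ^ 2) ≠ 0; omega
      · show (rts A).count (ζ ^ 3) ≠ 0; omega
      · show (rts A).count (ζ ^ 4) ≠ 0; omega
  exact charpoly_eq_of_rts ((shape M hM hM1 iM).trans (shape N hN hN1 iN).symm)

end CfsgLib.PauliFour
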