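import Cfsg.Agent.Lib.PauliFour.Witness
import Cfsg.Agent.Lib.PauliFour.Roots

/-! Which elements of prime order are conjugate into the normaliser of `R`. -/

set_option autoImplicit false

namespace CfsgLib.PauliFour

open Matrix

variable {F : Type*} [Field F] {ι : Type} [Fintype ι] [DecidableEq ι] {R : Subgroup (GL ι F)}

/-- The elements of determinant one of `K`. -/
abbrev detOne (K : Subgroup (GL ι F)) : Subgroup (GL ι F) :=
  K ⊓ (GeneralLinearGroup.det : GL ι F →* Fˣ).ker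

/-- Every element of order `r` modulo scalars is conjugate into the normaliser. -/
def AllConj (R K : Subgroup (GL ι F)) (r : ℕ) : Prop :=
  ∀ x ∈ detOne K, (∃ z : F, ((x ^ r : GL ι F) : Matrix ι ι F) = z • (1 : Matrix ι ι F)) →
    (∀ z : F, (x : Matrix ι ι F) ≠ z • (1 : Matrix ι ι F)) →
    ∃ g ∈ detOne K, g⁻¹ * x * g ∈ Subgroup.normalizer (R : Set (GL ι F))

/-- What is needed of the ambient group. -/
structure Amb (R K : Subgroup (GL ι F)) : Prop where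
  conj : ∀ x ∈ detOne K, ∀ y ∈ detOne K, ∀ N : ℕ, 0 < N → (N : F) ≠ 0 → x ^ N = 1 → y ^ N = 1 →
    (x : Matrix ι ι F).charpoly = (y : Matrix ι ι F).charpoly → ∃ g ∈ detOne K, g⁻¹ * x * g = y
  RK : R ≤ K
  wit : ∀ y : GL ι F, (∀ A : Adj R, A.Iso y) → y ∈ K

variable {K : Subgroup (GL ι F)}

theorem not_scalar_iff [Nonempty ι] (g : GL ι F) :
    (∀ z : F, (g : Matrix ι ι F) ≠ z • (1 : Matrix ι ι F)) ↔ ¬ ∃ c : Fˣ, g = sc c := by
  constructor
  · rintro h ⟨c, rfl⟩; exact h c (coe_sc c)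
  · intro h z hz
    obtain ⟨u, -, hu⟩ := eq_sc_of_coe hz
    exact h ⟨u, hu⟩

theorem pow_scalar {g : GL ι F} {r : ℕ} {z : F} (h : ((g ^ r : GL ι F) : Matrix ι ι F) = z • 1) :
    (g : Matrix ι ι F) ^ r = z • 1 := by
  rw [← Units.val_pow_eq_pow_val]; exact h

theorem sc_normal (c : Fˣ) : sc c ∈ Subgroup.normalizer (R : Set (GL ι F)) :=
  Subgroup.mem_normalizer_iff.2 fun g => by rw [sc_comm, mul_inv_cancel_right]

theorem det_sc (hd : Fintype.card ι = 4) (u : Fˣ) : GeneralLinearGroup.det (sc u : GL ι F) = u ^ 4 :=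
  Units.ext (by
    show Matrix.det ((sc u : GL ι F) : Matrix ι ι F) = _
    rw [coe_sc, Matrix.det_smul, Matrix.det_one, mul_one, hd, Units.val_pow_eq_pow_val])

theorem pos_two (h : Sys R) (f : Frame R) (hA : Amb R K)
    (h8 : ∀ x ∈ detOne K, ∀ e : Fˣ, (x : Matrix ι ι F) ^ 2 = (e : F) ^ 2 • 1 → (x : Matrix ι ι F).trace = 2 * e →
      e ^ 4 = -1 → ∃ i : Fˣ, (i : F) * i = -1 ∧ sc i ∈ R ∧ sc e ∈ K) :
    AllConj R K 2 := by
  haveI := h.nonempty
  intro x hx ⟨z, hz⟩ hns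
  have hz2 : (x : Matrix ι ι F) ^ 2 = z • 1 := pow_scalar hz
  have hdx : (x : Matrix ι ι F).det = 1 := congrArg Units.val (MonoidHom.mem_ker.1 hx.2)
  have hz4 : z ^ 4 = 1 := by
    have := congrArg Matrix.det hz2
    rw [Matrix.det_pow, hdx, one_pow, Matrix.det_smul, Matrix.det_one, mul_one, h.dim] at this
    exact this.symm
  have hz0 : z ≠ 0 := fun e => by rw [e, zero_pow (by norm_num)] at hz4; exact zero_ne_one hz4
  have h8' : ((8 : ℕ) : F) ≠ 0 := by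
    rw [show (8 : ℕ) = 2 * 2 * 2 by norm_num, Nat.cast_mul, Nat.cast_mul, Nat.cast_ofNat]
    exact mul_ne_zero (mul_ne_zero h.two h.two) h.two
  have hx8 : x ^ 8 = 1 := Units.ext (by
    rw [Units.val_pow_eq_pow_val, show (8 : ℕ) = 2 * 4 by norm_num, pow_mul, hz2, smul_pow, one_pow, hz4, one_smul,
      Units.val_one])
  -- a witness with the same square and the same trace
  suffices hw : ∃ y ∈ Subgroup.normalizer (R : Set (GL ι F)), y ∈ detOne K ∧ (y : Matrix ι ι F) ^ 2 = z • 1 ∧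
      (∀ t : F, (y : Matrix ι ι F) ≠ t • 1) ∧ (y : Matrix ι ι F).trace = (x : Matrix ι ι F).trace by
    obtain ⟨y, hyN, hyS, hy2, hys, hyt⟩ := hw
    have hy8 : y ^ 8 = 1 := Units.ext (by
      rw [Units.val_pow_eq_pow_val, show (8 : ℕ) = 2 * 4 by norm_num, pow_mul, hy2, smul_pow, one_pow, hz4, one_smul,
        Units.val_one])
    obtain ⟨g, hg, e⟩ := hA.conj x hx y hyS 8 (by norm_num) h8' hx8 hy8
      (square_charpoly h.two h.dim hz0 hz2 hy2 hns hys hyt.symm)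
    exact ⟨g, hg, e ▸ hyN⟩
  rcases square_facts h.two h.dim hz0 hz2 hns with ⟨ht, hd⟩ | ⟨e, he, ht, hd⟩
  · rw [hdx] at hd
    have mk : ∀ w ∈ R, nu f w ≠ 0 → (w : Matrix ι ι F) ^ 2 = z • 1 →
        ∃ y ∈ Subgroup.normalizer (R : Set (GL ι F)), y ∈ detOne K ∧ (y : Matrix ι ι F) ^ 2 = z • 1 ∧
        (∀ t : F, (y : Matrix ι ι F) ≠ t • 1) ∧ (y : Matrix ι ι F).trace = (x : Matrix ι ι F).trace := by
      intro w hw hn hw2
      have hws : ∀ t : F, (w : Matrix ι ι F) ≠ t • 1 := (not_scalar_iff w).2 fun ⟨c, hc⟩ => hn (by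
        rw [hc]
        funext i
        fin_cases i <;> simp [nu, bit_zero_iff.2 (sc_comm c _)])
      have htw := trace_eq_zero f h hw hn
      refine ⟨w, Subgroup.le_normalizer hw, ⟨hA.RK hw, ?_⟩, hw2, hws, by rw [htw, ht]⟩
      rcases square_facts h.two h.dim hz0 hw2 hws with ⟨-, hdw⟩ | ⟨e', he', ht', -⟩
      · exact MonoidHom.mem_ker.2 (Units.ext (hdw.trans hd.symm))
      · rw [htw] at ht'
        rw [(mul_eq_zero.1 ht'.symm).resolve_left h.two, zero_pow two_ne_zero] at he'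
        exact absurd he'.symm hz0
    rcases sq_eq_one_iff.1 hd.symm with rfl | rfl
    · refine mk f.a f.ha ?_ (by rw [← Units.val_pow_eq_pow_val, pow_two, f.aa, one_smul]; rfl)
      have := nu_gam f h 0
      rw [show gam f 0 = f.a from rfl] at this
      rw [this]; decide
    · refine mk f.c f.hc ?_ (by rw [← Units.val_pow_eq_pow_val, pow_two, f.cc, neg_one_smul]; rfl)
      have := nu_rep f h ![0, 0, 1, 0]
      simp only [rep] at this
      rw [show nu f f.c = ![0, 0, 1, 0] by simpa [ZMod.val_one] using this]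
      decide
  · rw [hdx] at hd
    have he0 : e ≠ 0 := fun h0 => hz0 (by rw [← he, h0, zero_pow two_ne_zero])
    have he4 : (Units.mk0 e he0) ^ 4 = -1 := Units.ext (by
      rw [Units.val_pow_eq_pow_val, Units.val_mk0, Units.val_neg, Units.val_one,
        show e ^ 4 = (e ^ 2) ^ 2 by ring, he]
      linear_combination hd)
    obtain ⟨i, hi, hiR, heK⟩ := h8 x hx (Units.mk0 e he0) (by rw [Units.val_mk0, he]; exact hz2)
      (by rw [Units.val_mk0]; exact ht) he4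
    obtain ⟨M, hMN, hMM, hMs, hMt, hMA⟩ := exists_refl f h hi hiR
    have hMs' := (not_scalar_iff M).2 hMs
    have hMd : (M : Matrix ι ι F).det = -1 := by
      have hM2 : (M : Matrix ι ι F) ^ 2 = (1 : F) • 1 := by
        rw [← Units.val_pow_eq_pow_val, pow_two, hMM, one_smul, Units.val_one]
      rcases square_facts h.two h.dim one_ne_zero hM2 hMs' with ⟨h0, -⟩ | ⟨-, -, -, h1⟩
      · rw [hMt] at h0; exact absurd h0 h.two
      · rw [h1, one_pow]
    refine ⟨sc (Units.mk0 e he0) * M, mul_mem (sc_normal _) hMN, ⟨mul_mem heK (hA.wit M hMA), ?_⟩, ?_, ?_, ?_⟩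
    · refine MonoidHom.mem_ker.2 ?_; rw [map_mul, det_sc h.dim, he4,
        show GeneralLinearGroup.det M = -1 from Units.ext hMd]
      simp
    · rw [Units.val_mul, coe_sc, smul_mul_assoc, one_mul, smul_pow, ← Units.val_pow_eq_pow_val M, pow_two M, hMM,
        Units.val_one, Units.val_mk0, he]
    · exact (not_scalar_iff _).2 fun ⟨c, hc⟩ => hMs ⟨(Units.mk0 e he0)⁻¹ * c, by
        rw [map_mul, ← hc, ← mul_assoc, ← map_mul, inv_mul_cancel, map_one, one_mul]⟩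
    · rw [Units.val_mul, coe_sc, smul_mul_assoc, one_mul, Matrix.trace_smul, hMt, ht, smul_eq_mul, Units.val_mk0]
      ring

theorem normalised {x : GL ι F} (hx : x ∈ detOne K) (hd : Fintype.card ι = 4) {r : ℕ} [Nonempty ι]
    (hr : r = 3 ∨ r = 5) (hz : ∃ z : F, ((x ^ r : GL ι F) : Matrix ι ι F) = z • (1 : Matrix ι ι F)) :
    ∃ c : Fˣ, sc c * x ∈ detOne K ∧ (sc c * x) ^ r = 1 := by
  obtain ⟨z, hz⟩ := hz
  obtain ⟨u, -, hu⟩ := eq_sc_of_coe hz
  have hu4 : u ^ 4 = 1 := by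
    rw [← det_sc hd, ← hu, map_pow, MonoidHom.mem_ker.1 hx.2, one_pow]
  have hsc : sc u ∈ detOne K := hu ▸ pow_mem hx r
  rcases hr with rfl | rfl
  · refine ⟨u, mul_mem hsc hx, ?_⟩
    rw [(show Commute (sc u) x from sc_comm _ _).mul_pow, hu, ← map_pow, ← map_mul, ← pow_succ, hu4, map_one]
  · refine ⟨u ^ 3, mul_mem (by rw [map_pow]; exact pow_mem hsc 3) hx, ?_⟩
    rw [(show Commute (sc (u ^ 3)) x from sc_comm _ _).mul_pow, hu, ← map_pow, ← map_mul, ← pow_mul, ← pow_succ,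
      show 3 * 5 + 1 = 4 * 4 by norm_num, pow_mul, hu4, one_pow, map_one]

theorem descend {x g y : GL ι F} {c : Fˣ} (h : g⁻¹ * (sc c * x) * g = y)
    (hy : y ∈ Subgroup.normalizer (R : Set (GL ι F))) : g⁻¹ * x * g ∈ Subgroup.normalizer (R : Set (GL ι F)) := by
  have e : g⁻¹ * x * g = (sc c)⁻¹ * y := by
    rw [← h, ← mul_assoc g⁻¹, ← sc_comm]
    group
  rw [e]
  exact mul_mem (inv_mem (sc_normal c)) hy

theorem shifted_not_scalar [Nonempty ι] {x : GL ι F} {c : Fˣ}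
    (h : ∀ z : F, (x : Matrix ι ι F) ≠ z • (1 : Matrix ι ι F)) : ¬ ∃ d : Fˣ, sc c * x = sc d :=
  fun ⟨d, hd⟩ => (not_scalar_iff x).1 h ⟨c⁻¹ * d, by rw [map_mul, ← hd, ← mul_assoc, ← map_mul, inv_mul_cancel, map_one, one_mul]⟩

theorem pos_three (h : Sys R) (f : Frame R) (hA : Amb R K) (h3 : (3 : F) ≠ 0)
    {i : Fˣ} (hi : (i : F) * i = -1) (hiR : sc i ∈ R)
    (hinv : ∀ y ∈ detOne K, y ^ 3 = 1 → (rts (y : Matrix ι ι F)).map (fun t => t⁻¹) = rts (y : Matrix ι ι F)) :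
    AllConj R K 3 := by
  haveI := h.nonempty
  intro x hx hz hns
  obtain ⟨c, hxS, hx3⟩ := normalised hx h.dim (Or.inl rfl) hz
  have hxs := shifted_not_scalar (c := c) hns
  have hv : ∀ g : GL ι F, g ^ 3 = 1 → (g : Matrix ι ι F) ^ 3 = 1 := fun g hg => by
    rw [← Units.val_pow_eq_pow_val, hg, Units.val_one]
  have h6 : (6 : F) ≠ 0 := by rw [show (6 : F) = 2 * 3 by norm_num]; exact mul_ne_zero h.two h3
  have cases : ∀ g ∈ detOne K, g ^ 3 = 1 → (¬ ∃ d : Fˣ, g = sc d) →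
      (g : Matrix ι ι F).trace = 1 ∨ (g : Matrix ι ι F).trace = -2 := fun g hg hg3 hgs => by
    obtain ⟨a1, a2, -⟩ := cube_charpoly h.two h.dim h3 (hv g hg3) (hv g hg3) (hinv g hg hg3) (hinv g hg hg3)
    exact a2.resolve_left fun e => hgs ⟨1, Units.ext (by rw [a1 e, map_one, Units.val_one])⟩
  -- witnesses with both traces
  have wit : ∀ n : ℕ, (n = 1 ∨ n = 4) → ∀ y ∈ Subgroup.normalizer (R : Set (GL ι F)),
      GeneralLinearGroup.det y = 1 → y ^ 3 = 1 → (¬ ∃ d : Fˣ, y = sc d) → nfix f y = n →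
      (∀ A : Adj R, A.Iso y) → y ∈ detOne K ∧ (y : Matrix ι ι F).trace = if n = 1 then 1 else -2 := by
    intro n hn y hyN hyd hy3 hys hyf hyA
    have hyS : y ∈ detOne K := ⟨hA.wit y hyA, MonoidHom.mem_ker.2 hyd⟩
    have hyi3 : y⁻¹ ^ 3 = 1 := by rw [inv_pow, hy3, inv_one]
    have hyis : ¬ ∃ d : Fˣ, y⁻¹ = sc d := fun ⟨d, hd⟩ => hys ⟨d⁻¹, by rw [map_inv, ← hd, inv_inv]⟩
    have htp := trace_product f h hyN Nat.prime_three (by norm_num) hy3
    rw [hyf] at htp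
    refine ⟨hyS, ?_⟩
    rcases cases y hyS hy3 hys with e1 | e1 <;> rcases cases y⁻¹ (inv_mem hyS) hyi3 hyis with e2 | e2 <;>
      rw [e1, e2] at htp <;> rw [e1] <;> rcases hn with rfl | rfl <;> norm_num at htp ⊢ <;>
      exfalso <;>
      first
        | exact h3 (by linear_combination htp)
        | exact h3 (by linear_combination -htp)
        | exact h6 (by linear_combination htp)
        | exact h6 (by linear_combination -htp)
  suffices hw : ∃ y ∈ Subgroup.normalizer (R : Set (GL ι F)), y ∈ detOne K ∧ y ^ 3 = 1 ∧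
      ((sc c * x : GL ι F) : Matrix ι ι F).trace = (y : Matrix ι ι F).trace by
    obtain ⟨y, hyN, hyS, hy3, hyt⟩ := hw
    obtain ⟨g, hg, e⟩ := hA.conj _ hxS y hyS 3 (by norm_num) (by exact_mod_cast h3) hx3 hy3
      ((cube_charpoly h.two h.dim h3 (hv _ hx3) (hv _ hy3) (hinv _ hxS hx3) (hinv _ hyS hy3)).2.2 hyt)
    exact ⟨g, hg, descend e hyN⟩
  rcases cases _ hxS hx3 hxs with e | e
  · obtain ⟨y, hyN, hyd, hy3, hys, hyf, hyA⟩ := exists_three' f h hi hiR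
    obtain ⟨hyS, ht⟩ := wit 1 (Or.inl rfl) y hyN hyd hy3 hys hyf hyA
    exact ⟨y, hyN, hyS, hy3, by rw [e, ht, if_pos rfl]⟩
  · obtain ⟨y, hyN, hyd, hy3, hys, hyf, hyA⟩ := exists_three f h
    obtain ⟨hyS, ht⟩ := wit 4 (Or.inr rfl) y hyN hyd hy3 hys hyf hyA
    exact ⟨y, hyN, hyS, hy3, by rw [e, ht, if_neg (by norm_num)]⟩

theorem pos_five (h : Sys R) (f : Frame R) (hA : Amb R K) (h5 : (5 : F) ≠ 0) {g₀ : ℕ} (hg₀ : g₀ = 2 ∨ g₀ = 3)
    (hinv : ∀ y ∈ detOne K, y ^ 5 = 1 → (rts (y : Matrix ι ι F)).map (fun t => t ^ g₀) = rts (y : Matrix ι ι F)) :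
    AllConj R K 5 := by
  haveI := h.nonempty
  intro x hx hz hns
  obtain ⟨c, hxS, hx5⟩ := normalised hx h.dim (Or.inr rfl) hz
  have hxs := shifted_not_scalar (c := c) hns
  obtain ⟨y, hyN, hyd, hy5, hys, hyA⟩ := exists_five f h
  have hyS : y ∈ detOne K := ⟨hA.wit y hyA, MonoidHom.mem_ker.2 hyd⟩
  have hv : ∀ g : GL ι F, g ^ 5 = 1 → (g : Matrix ι ι F) ^ 5 = 1 := fun g hg => by
    rw [← Units.val_pow_eq_pow_val, hg, Units.val_one]
  have h1 : ∀ g : GL ι F, (¬ ∃ d : Fˣ, g = sc d) → (g : Matrix ι ι F) ≠ 1 := fun g hg e =>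
    hg ⟨1, Units.ext (by rw [e, map_one, Units.val_one])⟩
  obtain ⟨g, hg, e⟩ := hA.conj _ hxS y hyS 5 (by norm_num) (by exact_mod_cast h5) hx5 hy5
    (five_charpoly h.dim h5 hg₀ (hv _ hx5) (hv _ hy5) (h1 _ hxs) (h1 _ hys) (hinv _ hxS hx5) (hinv _ hyS hy5))
  exact ⟨g, hg, descend e hyN⟩

/-- An element whose conjugates avoid the normaliser. -/
theorem not_allConj {r : ℕ} [Nonempty ι] {x : GL ι F} (hxS : x ∈ detOne K) (hxr : x ^ r = 1) (hns : ¬ ∃ c : Fˣ, x = sc c)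
    (hbad : ∀ g : GL ι F, g⁻¹ * x * g ∈ Subgroup.normalizer (R : Set (GL ι F)) → (g⁻¹ * x * g) ^ r = 1 →
      (¬ ∃ c : Fˣ, g⁻¹ * x * g = sc c) → False) : ¬ AllConj R K r := by
  intro hall
  obtain ⟨g, -, hg⟩ := hall x hxS ⟨1, by rw [hxr, one_smul]; rfl⟩ ((not_scalar_iff x).2 hns)
  refine hbad g hg ?_ fun ⟨c, hc⟩ => hns ⟨c, ?_⟩
  · have := conj_pow (i := r) (a := g⁻¹) (b := x)
    rw [inv_inv, hxr, mul_one, inv_mul_cancel] at this
    exact this
  · rw [show x = g * (g⁻¹ * x * g) * g⁻¹ by group, hc, ← sc_comm, mul_inv_cancel_right]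

theorem neg_big (h : Sys R) (f : Frame R) {r : ℕ} [hr : Fact r.Prime] (h7 : 5 < r) [Finite (detOne K)]
    (hdvd : r ∣ Nat.card (detOne K)) : ¬ AllConj R K r := by
  haveI := h.nonempty
  obtain ⟨x, hx⟩ := exists_prime_orderOf_dvd_card' r hdvd
  have hxo : orderOf (x : GL ι F) = r := by rw [Subgroup.orderOf_coe, hx]
  refine not_allConj x.2 (hxo ▸ pow_orderOf_eq_one _) ?_ fun g hg hp hs => ?_
  · rintro ⟨c, hc⟩
    have h4 : (x : GL ι F) ^ 4 = 1 := by
      rw [hc, ← map_pow, ← det_sc h.dim c, ← hc, MonoidHom.mem_ker.1 x.2.2, map_one]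
    have := Nat.le_of_dvd (by norm_num) (hxo ▸ orderOf_dvd_of_pow_eq_one h4)
    omega
  · rcases nfix_cases f h hg (r := r) (by omega) hp hs with ⟨e, -⟩ | ⟨e, -⟩ <;> omega

theorem neg_trace (h : Sys R) (f : Frame R) {r : ℕ} [hr : Fact r.Prime] (hr2 : r ≠ 2) {x : GL ι F}
    (hxS : x ∈ detOne K) (hxr : x ^ r = 1) (hns : ¬ ∃ c : Fˣ, x = sc c)
    (hbad : ∀ y : GL ι F, y ∈ Subgroup.normalizer (R : Set (GL ι F)) → y ^ r = 1 → (¬ ∃ c : Fˣ, y = sc c) →
      (x : Matrix ι ι F).trace * ((x⁻¹ : GL ι F) : Matrix ι ι F).trace ≠ (nfix f y : F)) :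
    ¬ AllConj R K r := by
  haveI := h.nonempty
  refine not_allConj hxS hxr hns fun g hg hp hs => ?_
  apply hbad _ hg hp hs
  rw [← trace_product f h hg hr.out hr2 hp, show (g⁻¹ * x * g)⁻¹ = g⁻¹ * x⁻¹ * g by group]
  simp only [Units.val_mul, Matrix.trace_units_conj']

theorem neg_transvection (h : Sys R) (f : Frame R) {r : ℕ} [hr : Fact r.Prime] (hr2 : r ≠ 2) {x : GL ι F}
    (hxS : x ∈ detOne K) (hxr : x ^ r = 1) (hns : ¬ ∃ c : Fˣ, x = sc c)
    (hsq : ((x : Matrix ι ι F) - 1) * ((x : Matrix ι ι F) - 1) = 0)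
    (hrank : ∀ M : Matrix ι ι F, ∃ t : F,
      ((x : Matrix ι ι F) - 1) * M * ((x : Matrix ι ι F) - 1) = t • ((x : Matrix ι ι F) - 1)) :
    ¬ AllConj R K r := by
  haveI := h.nonempty
  refine not_allConj hxS hxr hns fun g hg hp hs => ?_
  set N := (x : Matrix ι ι F) - 1
  have e : ((g⁻¹ * x * g : GL ι F) : Matrix ι ι F) - 1 = ((g⁻¹ : GL ι F) : Matrix ι ι F) * N * g := by
    simp only [N, Units.val_mul, mul_sub, sub_mul, mul_one, Units.inv_mul]
  refine no_transvection f h hg hr2 hp hs ?_ fun M => ?_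
  · rw [e]
    calc _ = ((g⁻¹ : GL ι F) : Matrix ι ι F) * (N * N) * g := by
          simp only [mul_assoc, Units.mul_inv_cancel_left]
      _ = 0 := by rw [hsq, mul_zero, zero_mul]
  · obtain ⟨t, ht⟩ := hrank ((g : Matrix ι ι F) * M * ((g⁻¹ : GL ι F) : Matrix ι ι F))
    refine ⟨t, ?_⟩
    rw [e]
    calc _ = ((g⁻¹ : GL ι F) : Matrix ι ι F) * (N * ((g : Matrix ι ι F) * M * ((g⁻¹ : GL ι F) : Matrix ι ι F)) * N) * g := by
          simp only [mul_assoc]
      _ = _ := by rw [ht, mul_smul_comm, smul_mul_assoc]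

end CfsgLib.PauliFour
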