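import Cfsg.Agent.Lib.PauliFour.Common
import Cfsg.Agent.Lib.SemisimpleIso.Groups
import Cfsg.Prelude.Def_ClassicalGeometry

/-! The symplectic group as ambient group, and witnesses. -/

set_option autoImplicit false

namespace CfsgLib.PauliFour

open Matrix Polynomial

variable {F : Type*} [Field F]

local notation "M4" => Matrix (Fin 2 ⊕ Fin 2) (Fin 2 ⊕ Fin 2) F
local notation "GL4" => GL (Fin 2 ⊕ Fin 2) F

theorem mem_symp (g : GL4) : g ∈ Cfsg.spGL 2 F ↔ g.1ᵀ * Matrix.J (Fin 2) F * g.1 = Matrix.J (Fin 2) F := by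
  have e : ∀ u v, Cfsg.sympForm 2 F (g.1 *ᵥ u) (g.1 *ᵥ v) = u ⬝ᵥ ((g.1ᵀ * Matrix.J (Fin 2) F * g.1) *ᵥ v) :=
    fun u v => by
      rw [Cfsg.sympForm, ← Matrix.mulVec_mulVec, ← Matrix.mulVec_mulVec, Matrix.dotProduct_mulVec u g.1ᵀ,
        Matrix.vecMul_transpose]
  constructor
  · intro hg
    ext a b
    have := (e (Pi.single a 1) (Pi.single b 1)).symm.trans (hg (Pi.single a 1) (Pi.single b 1))
    simpa [Cfsg.sympForm] using this
  · intro hg u v
    show Cfsg.sympForm 2 F (g.1 *ᵥ u) (g.1 *ᵥ v) = Cfsg.sympForm 2 F u v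
    rw [e, hg, Cfsg.sympForm]

theorem symp_det {g : GL4} (hg : g ∈ Cfsg.spGL 2 F) : g.1.det = 1 :=
  SymplecticGroup.det_eq_one (SymplecticGroup.mem_iff'.2 ((mem_symp g).1 hg))

theorem detOne_symp : detOne (Cfsg.spGL 2 F) = Cfsg.spGL 2 F :=
  inf_of_le_left fun _ hg => MonoidHom.mem_ker.2 (Units.ext (symp_det hg))

theorem adj_iso_iff (g : GL4) :
    SemisimpleIso.adj (Matrix.J (Fin 2) F) g.1 * g.1 = 1 ↔ g ∈ Cfsg.spGL 2 F := by
  have hJ := Matrix.isUnit_det_J (Fin 2) F
  rw [mem_symp, SemisimpleIso.adj, Matrix.mul_assoc, Matrix.mul_assoc, ← Matrix.mul_assoc g.1ᵀ]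
  constructor
  · intro h
    have := congrArg (Matrix.J (Fin 2) F * ·) h
    simpa [← Matrix.mul_assoc, Matrix.mul_nonsing_inv _ hJ] using this
  · intro h; rw [h, Matrix.nonsing_inv_mul _ hJ]

variable [Fintype F]

/-- The adjoint map of the alternating form. -/
noncomputable def sympAdj {R : Subgroup GL4} (hR : R ≤ Cfsg.spGL 2 F) : Adj R where
  st := SemisimpleIso.adj (Matrix.J (Fin 2) F)
  σ := RingHom.id F
  st_add := SemisimpleIso.adj_add
  st_mul := SemisimpleIso.adj_mul (Matrix.isUnit_det_J (Fin 2) F)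
  st_one := SemisimpleIso.adj_one (Matrix.isUnit_det_J (Fin 2) F)
  st_smul c M := SemisimpleIso.adj_smul c M
  det_st M := by
    rw [SemisimpleIso.adj, Matrix.det_mul, Matrix.det_mul, Matrix.det_transpose, Matrix.det_nonsing_inv,
      mul_right_comm, Ring.inverse_mul_cancel _ (Matrix.isUnit_det_J (Fin 2) F), one_mul]
    rfl
  onR g hg := (adj_iso_iff g).2 (hR hg)

theorem symp_conj {p : ℕ} [Fact p.Prime] [CharP F p] (x : GL4) (hx : x ∈ Cfsg.spGL 2 F) (y : GL4)
    (hy : y ∈ Cfsg.spGL 2 F) (N : ℕ) (hN : (N : F) ≠ 0) (hxN : x ^ N = 1) (hyN : y ^ N = 1)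
    (hc : (x : M4).charpoly = (y : M4).charpoly) : ∃ g ∈ Cfsg.spGL 2 F, g⁻¹ * x * g = y := by
  have hcop : Nat.Coprime N p :=
    ((Nat.Prime.coprime_iff_not_dvd Fact.out).2 fun hd => hN ((CharP.cast_eq_zero_iff F p N).2 hd)).symm
  let toS : ∀ g : GL4, g ∈ Cfsg.spGL 2 F → ↥(Matrix.symplecticGroup (Fin 2) F) := fun g hg =>
    ⟨g.1, SymplecticGroup.mem_iff'.2 ((mem_symp g).1 hg)⟩
  let ψ : ↥(Matrix.symplecticGroup (Fin 2) F) →* GL4 :=
    (Units.map (Matrix.symplecticGroup (Fin 2) F).subtype).comp toUnits.toMonoidHom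
  have hψ : Function.Injective ψ := fun a b e => Subtype.ext (congrArg Units.val e)
  have hψS : ∀ g hg, ψ (toS g hg) = g := fun g hg => Units.ext rfl
  have hord : ∀ g hg, g ^ N = 1 → (orderOf (toS g hg)).Coprime p := fun g hg hgN => by
    rw [← orderOf_injective ψ hψ, hψS g hg]
    exact hcop.coprime_dvd_left (orderOf_dvd_of_pow_eq_one hgN)
  obtain ⟨k, hk⟩ := _root_.isConj_iff.1 (SemisimpleIso.symp_isConj_of_charpoly (A := toS y hy) (B := toS x hx)
    (hord y hy hyN) (hord x hx hxN) hc.symm)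
  refine ⟨ψ k, (mem_symp _).2 (SymplecticGroup.mem_iff'.1 k.2), ?_⟩
  have := congrArg ψ hk
  rw [map_mul, map_mul, map_inv, hψS x hx, hψS y hy] at this
  rw [← this]; group

theorem amb_symp {p : ℕ} [Fact p.Prime] [CharP F p] {R : Subgroup GL4} (hR : R ≤ Cfsg.spGL 2 F) :
    Amb R (Cfsg.spGL 2 F) := by
  refine ⟨fun x hx y hy N _ hN hxN hyN hc => ?_, hR, fun y hy => (adj_iso_iff y).1 (hy (sympAdj hR))⟩
  rw [detOne_symp] at hx hy ⊢
  exact symp_conj (p := p) x hx y hy N hN hxN hyN hc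

/-- An element acting on one hyperbolic plane. -/
def plane (a b c d : F) : M4 :=
  Matrix.fromBlocks (Matrix.diagonal ![a, 1]) (Matrix.diagonal ![b, 0]) (Matrix.diagonal ![c, 0])
    (Matrix.diagonal ![d, 1])

omit [Fintype F] in
theorem plane_mul (a b c d a' b' c' d' : F) :
    plane a b c d * plane a' b' c' d' = plane (a * a' + b * c') (a * b' + b * d') (c * a' + d * c') (c * b' + d * d') := by
  ext (i | i) (j | j) <;> fin_cases i <;> fin_cases j <;>
    simp [plane, Matrix.mul_apply, Fintype.sum_sum_type, Fin.sum_univ_two]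

omit [Fintype F] in
theorem plane_one : plane (1 : F) 0 0 1 = 1 := by
  ext (i | i) (j | j) <;> fin_cases i <;> fin_cases j <;> simp [plane, Matrix.one_apply]

omit [Fintype F] in
theorem plane_trace (a b c d : F) : (plane a b c d).trace = a + d + 2 := by
  simp [plane, Matrix.trace, Fintype.sum_sum_type, Fin.sum_univ_two]; ring

omit [Fintype F] in
theorem exists_plane {a b c d : F} (h : a * d - b * c = 1) :
    ∃ x : GL4, x ∈ Cfsg.spGL 2 F ∧ (x : M4) = plane a b c d ∧ ((x⁻¹ : GL4) : M4) = plane d (-b) (-c) a := by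
  have h1 : plane a b c d * plane d (-b) (-c) a = 1 := by
    rw [plane_mul, ← plane_one]; congr 1 <;> first | ring1 | linear_combination h | linear_combination -h
  have h2 : plane d (-b) (-c) a * plane a b c d = 1 := by
    rw [plane_mul, ← plane_one]; congr 1 <;> first | ring1 | linear_combination h | linear_combination -h
  refine ⟨⟨_, _, h1, h2⟩, (mem_symp _).2 ?_, rfl, rfl⟩
  show (plane a b c d)ᵀ * Matrix.J (Fin 2) F * plane a b c d = Matrix.J (Fin 2) F
  ext (i | i) (j | j) <;> fin_cases i <;> fin_cases j <;>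
    simp [plane, Matrix.J, Matrix.mul_apply, Fintype.sum_sum_type, Fin.sum_univ_two, Matrix.one_apply] <;>
    first | ring1 | linear_combination h | linear_combination -h

theorem symp_transvection {p : ℕ} [Fact p.Prime] [CharP F p] {R : Subgroup GL4} (h : Sys R) (f : Frame R)
    (hp2 : p ≠ 2) : ¬ AllConj R (Cfsg.spGL 2 F) p := by
  haveI := h.nonempty
  obtain ⟨x, hxS, hx, -⟩ := exists_plane (a := (1 : F)) (b := 1) (c := 0) (d := 1) (by ring)
  set N : M4 := Matrix.single (Sum.inl 0) (Sum.inr 0) 1 with hN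
  have hx1 : (x : M4) - 1 = N := by
    rw [hx, hN]
    ext (i | i) (j | j) <;> fin_cases i <;> fin_cases j <;> simp [plane, Matrix.one_apply, Matrix.single_apply]
  have hNN : N * N = 0 := by rw [hN]; simp
  refine neg_transvection h f hp2 (x := x) (by rwa [detOne_symp]) ?_ ?_ (hx1 ▸ hNN) fun M => ⟨M (Sum.inr 0) (Sum.inl 0), ?_⟩
  · refine Units.ext ?_
    rw [Units.val_pow_eq_pow_val, show (x : M4) = 1 + N by rw [← hx1]; abel,
      add_pow_char_of_commute (p := p) (h := Commute.one_left N), one_pow,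
      pow_eq_zero_of_le (show 2 ≤ p from (Fact.out : p.Prime).two_le) (by rw [pow_two, hNN]), add_zero, Units.val_one]
  · rintro ⟨c, hc⟩
    have := congrArg (fun w : GL4 => (w : M4) (Sum.inl 0) (Sum.inr 0)) hc
    simp [hx, plane] at this
  · rw [hx1]
    ext (i | i) (j | j) <;> fin_cases i <;> fin_cases j <;>
      simp [N, Matrix.mul_apply, Matrix.single_apply, Fin.sum_univ_two, Fintype.sum_sum_type]

theorem rts_symp {p : ℕ} [Fact p.Prime] [CharP F p] (hF : Fintype.card F = p) {r k : ℕ}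
    (hk : ∀ t : AlgebraicClosure F, t ^ r = 1 → t ^ p = t ^ k) {y : GL4} (hy : y ^ r = 1) :
    (rts (y : M4)).map (fun t => t ^ k) = rts (y : M4) := by
  conv_rhs => rw [← rts_frobenius p (e := 1) (by rw [hF, pow_one]) (y : M4)]
  refine Multiset.map_congr rfl fun t ht => ?_
  rw [hF, hk t]
  have := rts_pow (z := 1) (by rw [← Units.val_pow_eq_pow_val, hy, Units.val_one, one_smul]) ht
  rw [this, map_one]

end CfsgLib.PauliFour
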