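import Cfsg.Agent.Lib.PauliFour.Common
import Cfsg.Agent.Lib.CentralizerDet
import Cfsg.Agent.Lib.SemisimpleClasses

/-! The general linear group as ambient group, and witnesses. -/

set_option autoImplicit false

namespace CfsgLib.PauliFour

open Matrix Polynomial

variable {F : Type*} [Field F] [Fintype F] {R : Subgroup (GL (Fin 4) F)}

theorem semisimple_of_pow {N : ℕ} (hN : (N : F) ≠ 0) {x : GL (Fin 4) F} (hx : x ^ N = 1) :
    Module.End.IsSemisimple (Matrix.toLinAlgEquiv' x.1) := by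
  refine Module.End.isSemisimple_of_squarefree_aeval_eq_zero
    (p := X ^ N - 1) (X_pow_sub_one_separable_iff.mpr hN).squarefree ?_
  rw [map_sub, map_pow, aeval_X, map_one, ← map_pow, ← Units.val_pow_eq_pow_val, hx, Units.val_one, map_one, sub_self]

theorem linear_conj (x : GL (Fin 4) F) (hx : x ∈ detOne ⊤) (y : GL (Fin 4) F) (hy : y ∈ detOne ⊤) (N : ℕ)
    (hN : (N : F) ≠ 0) (hxN : x ^ N = 1) (hyN : y ^ N = 1)
    (hc : (x : Matrix (Fin 4) (Fin 4) F).charpoly = (y : Matrix (Fin 4) (Fin 4) F).charpoly) :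
    ∃ g ∈ detOne (⊤ : Subgroup (GL (Fin 4) F)), g⁻¹ * x * g = y := by
  have hxs := semisimple_of_pow hN hxN
  have hys := semisimple_of_pow hN hyN
  obtain ⟨P, hP⟩ := SemisimpleClasses.exists_conj hys hxs hc.symm
  have e1 : P * y = x * P := Units.ext hP
  obtain ⟨g, hgc, hgd⟩ := CentralizerDet.exists_det_of_semisimple _ hxs (GeneralLinearGroup.det P)⁻¹
  set M := LinearMap.toMatrixAlgEquiv' g with hM
  have hMd : M.det = ((GeneralLinearGroup.det P)⁻¹ : Fˣ) := by
    rw [← hgd, hM]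
    exact LinearMap.det_toMatrix' g
  let z : GL (Fin 4) F := GeneralLinearGroup.mkOfDetNeZero M (by rw [hMd]; exact Units.ne_zero _)
  have hzx : z * x = x * z := Units.ext (by
    show M * (x : Matrix (Fin 4) (Fin 4) F) = (x : Matrix (Fin 4) (Fin 4) F) * M
    apply Matrix.toLinAlgEquiv'.injective
    rw [map_mul, map_mul, hM, Matrix.toLinAlgEquiv'_toMatrixAlgEquiv']
    exact hgc.eq)
  refine ⟨z * P, ⟨Subgroup.mem_top _, MonoidHom.mem_ker.2 (Units.ext ?_)⟩, ?_⟩
  · show ((z : Matrix (Fin 4) (Fin 4) F) * (P : Matrix (Fin 4) (Fin 4) F)).det = 1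
    rw [Matrix.det_mul, show (z : Matrix (Fin 4) (Fin 4) F) = M from rfl, hMd]
    exact Units.inv_mul _
  · rw [show (z * P)⁻¹ * x * (z * P) = P⁻¹ * z⁻¹ * (x * z) * P by group, ← hzx,
      show P⁻¹ * z⁻¹ * (z * x) * P = P⁻¹ * (x * P) by group, ← e1, inv_mul_cancel_left]

theorem amb_linear (R : Subgroup (GL (Fin 4) F)) : Amb R ⊤ :=
  ⟨fun x hx y hy N _ hN hxN hyN hc => linear_conj x hx y hy N hN hxN hyN hc, le_top, fun _ _ => Subgroup.mem_top _⟩

/-- An element of determinant one of the given order. -/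
theorem exists_unit {M : Matrix (Fin 4) (Fin 4) F} (hd : M.det = 1) : ∃ x : GL (Fin 4) F,
    x ∈ detOne (⊤ : Subgroup (GL (Fin 4) F)) ∧ (x : Matrix (Fin 4) (Fin 4) F) = M :=
  ⟨GeneralLinearGroup.mkOfDetNeZero M (by rw [hd]; exact one_ne_zero),
    ⟨Subgroup.mem_top _, MonoidHom.mem_ker.2 (Units.ext hd)⟩, rfl⟩

theorem linear_transvection {p : ℕ} [Fact p.Prime] [CharP F p] (h : Sys R) (f : Frame R) (hp2 : p ≠ 2) :
    ¬ AllConj R ⊤ p := by
  haveI := h.nonempty
  set N : Matrix (Fin 4) (Fin 4) F := Matrix.single 0 1 1 with hN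
  obtain ⟨x, hxS, hx⟩ := exists_unit (M := Matrix.transvection (0 : Fin 4) 1 (1 : F))
    (Matrix.det_transvection_of_ne _ _ (by decide) _)
  have hx1 : (x : Matrix (Fin 4) (Fin 4) F) - 1 = N := by rw [hx, Matrix.transvection, add_sub_cancel_left]
  have hNN : N * N = 0 := by rw [hN]; simp
  refine neg_transvection h f hp2 hxS ?_ ?_ (hx1 ▸ hNN) fun M => ⟨M 1 0, ?_⟩
  · refine Units.ext ?_
    rw [Units.val_pow_eq_pow_val, show (x : Matrix (Fin 4) (Fin 4) F) = 1 + N by rw [← hx1]; abel,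
      add_pow_char_of_commute (p := p) (h := Commute.one_left N), one_pow,
      pow_eq_zero_of_le (show 2 ≤ p from (Fact.out : p.Prime).two_le) (by rw [pow_two, hNN]), add_zero, Units.val_one]
  · rintro ⟨c, hc⟩
    have := congrArg (fun w : GL (Fin 4) F => (w : Matrix (Fin 4) (Fin 4) F) 0 1) hc
    simp [hx, Matrix.transvection] at this
  · rw [hx1]
    ext i j
    fin_cases i <;> fin_cases j <;> simp [N, Matrix.mul_apply, Matrix.single_apply, Fin.sum_univ_four]

theorem rts_linear {p : ℕ} [Fact p.Prime] [CharP F p] (hF : Fintype.card F = p) {r k : ℕ}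
    (hk : ∀ t : AlgebraicClosure F, t ^ r = 1 → t ^ p = t ^ k) {y : GL (Fin 4) F} (hy : y ^ r = 1) :
    (rts (y : Matrix (Fin 4) (Fin 4) F)).map (fun t => t ^ k) = rts (y : Matrix (Fin 4) (Fin 4) F) := by
  conv_rhs => rw [← rts_frobenius p (e := 1) (by rw [hF, pow_one]) (y : Matrix (Fin 4) (Fin 4) F)]
  refine Multiset.map_congr rfl fun t ht => ?_
  rw [hF, hk t]
  have := rts_pow (z := 1) (by rw [← Units.val_pow_eq_pow_val, hy, Units.val_one, one_smul]) ht
  rw [this, map_one]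

end CfsgLib.PauliFour
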