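import Cfsg.Agent.Lib.PauliFour.Vectors

/-! Elements of prime order normalising `R`. -/

set_option autoImplicit false

namespace CfsgLib.PauliFour

open Matrix

variable {F : Type*} [Field F] {ι : Type} [Fintype ι] [DecidableEq ι] {R : Subgroup (GL ι F)} (f : Frame R)

theorem conj_mem {y x : GL ι F} (hy : y ∈ Subgroup.normalizer (R : Set (GL ι F))) (hx : x ∈ R) :
    y * x * y⁻¹ ∈ R := (Subgroup.mem_normalizer_iff.1 hy x).1 hx

/-- The action on coordinates. -/
noncomputable def sigv (y : GL ι F) (v : Vec) : Vec := nu f (y * rep f v * y⁻¹)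

variable {y y' : GL ι F}

theorem nu_scalar (h : Sys R) {u : Fˣ} (hu : sc u ∈ R) {x : GL ι F} (hx : x ∈ R) : nu f (sc u * x) = nu f x := by
  rw [nu_mul f h hu hx]
  have : nu f (sc u) = 0 := by
    funext i
    fin_cases i <;> simp [nu, bit_zero_iff.2 (sc_comm u _)]
  rw [this, zero_add]

theorem nu_conj (h : Sys R) (hy : y ∈ Subgroup.normalizer (R : Set (GL ι F))) {x : GL ι F} (hx : x ∈ R) :
    nu f (y * x * y⁻¹) = sigv f y (nu f x) := by
  obtain ⟨u, hu, e⟩ := eq_rep f h hx
  conv_lhs => rw [e]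
  rw [show y * (sc u * rep f (nu f x)) * y⁻¹ = (y * sc u) * rep f (nu f x) * y⁻¹ by group, ← sc_comm,
    show sc u * y * rep f (nu f x) * y⁻¹ = sc u * (y * rep f (nu f x) * y⁻¹) by group,
    nu_scalar f h hu (conj_mem hy (rep_mem f _))]
  rfl

theorem sigv_mul (h : Sys R) (hy : y ∈ Subgroup.normalizer (R : Set (GL ι F)))
    (hy' : y' ∈ Subgroup.normalizer (R : Set (GL ι F))) (v : Vec) :
    sigv f (y * y') v = sigv f y (sigv f y' v) := by
  unfold sigv
  rw [show y * y' * rep f v * (y * y')⁻¹ = y * (y' * rep f v * y'⁻¹) * y⁻¹ by group,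
    nu_conj f h hy (conj_mem hy' (rep_mem f v))]
  rfl

theorem sigv_one (h : Sys R) (v : Vec) : sigv f 1 v = v := by
  simp [sigv, nu_rep f h]

theorem sigv_add (h : Sys R) (hy : y ∈ Subgroup.normalizer (R : Set (GL ι F))) (v w : Vec) :
    sigv f y (v + w) = sigv f y v + sigv f y w := by
  have e : nu f (rep f v * rep f w) = v + w := by rw [nu_mul f h (rep_mem f v) (rep_mem f w), nu_rep f h, nu_rep f h]
  rw [← e, ← nu_conj f h hy (mul_mem (rep_mem f v) (rep_mem f w)),
    show y * (rep f v * rep f w) * y⁻¹ = (y * rep f v * y⁻¹) * (y * rep f w * y⁻¹) by group,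
    nu_mul f h (conj_mem hy (rep_mem f v)) (conj_mem hy (rep_mem f w))]
  rfl

theorem sigv_form (h : Sys R) (hy : y ∈ Subgroup.normalizer (R : Set (GL ι F))) (v w : Vec) :
    form (sigv f y v) (sigv f y w) = form v w := by
  unfold sigv
  rw [← bit_nu f h (conj_mem hy (rep_mem f v)) (conj_mem hy (rep_mem f w))]
  conv_rhs => rw [← nu_rep f h v, ← nu_rep f h w, ← bit_nu f h (rep_mem f v) (rep_mem f w)]
  unfold bit
  congr 1
  rw [show y * rep f v * y⁻¹ * (y * rep f w * y⁻¹) = y * (rep f v * rep f w) * y⁻¹ by group,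
    show y * rep f w * y⁻¹ * (y * rep f v * y⁻¹) = y * (rep f w * rep f v) * y⁻¹ by group,
    mul_left_inj, mul_right_inj]

/-- The permutation of coordinates as a homomorphism. -/
noncomputable def sigHom (h : Sys R) : Subgroup.normalizer (R : Set (GL ι F)) →* Equiv.Perm Vec :=
  MonoidHom.mk' (fun y => ⟨sigv f y.1, sigv f (y.1)⁻¹,
      fun v => by rw [← sigv_mul f h (inv_mem y.2) y.2, inv_mul_cancel, sigv_one f h],
      fun v => by rw [← sigv_mul f h y.2 (inv_mem y.2), mul_inv_cancel, sigv_one f h]⟩)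
    fun y z => Equiv.ext fun v => sigv_mul f h y.2 z.2 v

theorem sigHom_apply (h : Sys R) (y : Subgroup.normalizer (R : Set (GL ι F))) (v : Vec) :
    sigHom f h y v = sigv f y.1 v := rfl

theorem conj_fixed (h : Sys R) (hy : y ∈ Subgroup.normalizer (R : Set (GL ι F))) {r : ℕ} (hr : r.Prime) (hr2 : r ≠ 2)
    (hyr : y ^ r = 1) {v : Vec} (hv : sigv f y v = v) : y * rep f v * y⁻¹ = rep f v := by
  haveI := h.nonempty
  obtain ⟨u, hu, e⟩ := eq_rep f h (conj_mem hy (rep_mem f v))
  rw [show nu f (y * rep f v * y⁻¹) = v from hv] at e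
  have hn : ∀ n : ℕ, y ^ n * rep f v * (y ^ n)⁻¹ = sc (u ^ n) * rep f v := by
    intro n
    induction n with
    | zero => simp
    | succ n ih =>
      calc y ^ (n + 1) * rep f v * (y ^ (n + 1))⁻¹ = y * (y ^ n * rep f v * (y ^ n)⁻¹) * y⁻¹ := by
            rw [pow_succ']; group
        _ = y * sc (u ^ n) * rep f v * y⁻¹ := by rw [ih]; group
        _ = sc (u ^ n) * (y * rep f v * y⁻¹) := by rw [← sc_comm]; group
        _ = _ := by rw [e, ← mul_assoc, ← map_mul, ← pow_succ]
  have h1 : u ^ r = 1 := sc_injective (ι := ι) (by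
    have := hn r
    rw [hyr, inv_one, one_mul, mul_one, eq_comm, mul_eq_right] at this
    rw [this, map_one])
  have h4 : u ^ 4 = 1 := sc_injective (ι := ι) (by rw [map_pow, h.pow_four _ hu, map_one])
  have hu1 : u = 1 := by
    rw [← orderOf_eq_one_iff]
    have hco : Nat.Coprime 4 r := ((Nat.coprime_primes Nat.prime_two hr).2 (Ne.symm hr2)).pow_left 2
    exact Nat.eq_one_of_dvd_coprimes hco (orderOf_dvd_of_pow_eq_one h4) (orderOf_dvd_of_pow_eq_one h1)
  rw [e, hu1, map_one, one_mul]

theorem scalar_of_trivial (h : Sys R) (hy : y ∈ Subgroup.normalizer (R : Set (GL ι F))) {r : ℕ} (hr : r.Prime)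
    (hr2 : r ≠ 2) (hyr : y ^ r = 1) (hall : ∀ v, sigv f y v = v) :
    ∃ c : Fˣ, y = sc c := by
  refine h.central fun g hg => ?_
  obtain ⟨u, hu, e⟩ := eq_rep f h hg
  rw [e, ← mul_assoc, ← sc_comm, mul_assoc, mul_inv_eq_iff_eq_mul.1 (conj_fixed f h hy hr hr2 hyr (hall _)),
    ← mul_assoc]

/-- The number of fixed vectors. -/
noncomputable def nfix (y : GL ι F) : ℕ := (Finset.univ.filter fun v : Vec => sigv f y v = v).card

theorem form_count : ∀ v₀ : Vec, v₀ ≠ 0 → (Finset.univ.filter fun w : Vec => form w v₀ = 0).card = 8 := by decide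

theorem form_self : ∀ v : Vec, form v v = 0 := by decide

theorem sigHom_pow (h : Sys R) (hy : y ∈ Subgroup.normalizer (R : Set (GL ι F))) {r : ℕ} (hyr : y ^ r = 1) :
    sigHom f h ⟨y, hy⟩ ^ r ^ 1 = 1 := by
  rw [pow_one, ← map_pow, show (⟨y, hy⟩ : Subgroup.normalizer (R : Set (GL ι F))) ^ r = 1 from Subtype.ext hyr, map_one]

theorem card_fix_mod (σ : Equiv.Perm Vec) {r : ℕ} [Fact r.Prime] (hσ : σ ^ r ^ 1 = 1) (S : Finset Vec)
    (hS : ∀ v, σ v ∈ S ↔ v ∈ S) : (S.filter fun v => σ v = v).card ≡ S.card [MOD r] := by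
  classical
  have := Equiv.Perm.card_compl_support_modEq (σ := σ.subtypePerm (p := (· ∈ S)) hS) (p := r) (n := 1) (by
    rw [Equiv.Perm.subtypePerm_pow]
    ext ⟨v, hv⟩
    simp [show σ ^ r = 1 by simpa using hσ])
  have e : ((σ.subtypePerm (p := (· ∈ S)) hS).supportᶜ).map (Function.Embedding.subtype _) =
      S.filter fun v => σ v = v := by
    ext v
    simp [Equiv.Perm.mem_support, and_comm]
  rw [← e, Finset.card_map]
  simpa using this

theorem nfix_cases (h : Sys R) (hy : y ∈ Subgroup.normalizer (R : Set (GL ι F))) {r : ℕ} [hr : Fact r.Prime]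
    (hr2 : r ≠ 2) (hyr : y ^ r = 1) (hns : ¬ ∃ c : Fˣ, y = sc c) :
    (r = 3 ∧ (nfix f y = 1 ∨ nfix f y = 4)) ∨ (r = 5 ∧ nfix f y = 1) := by
  classical
  set σ := sigHom f h ⟨y, hy⟩ with hσdef
  have hσ : σ ^ r ^ 1 = 1 := sigHom_pow f h hy hyr
  have hne : nfix f y ≠ 16 := fun e => hns (scalar_of_trivial f h hy hr.out hr2 hyr fun v => by
    have hu : (Finset.univ.filter fun v : Vec => sigv f y v = v) = Finset.univ :=
      Finset.eq_univ_of_card _ (e.trans rfl)
    exact (Finset.mem_filter.1 (show v ∈ Finset.univ.filter fun v : Vec => sigv f y v = v by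
      rw [hu]; exact Finset.mem_univ v)).2)
  have h16 : nfix f y ≡ 16 [MOD r] := card_fix_mod σ hσ Finset.univ (by simp)
  have h0 : sigv f y 0 = 0 := by
    have h1 := sigv_add f h hy 0 0
    rw [add_zero, left_eq_add] at h1
    exact h1
  have hdvd : nfix f y ∣ 2 ^ 4 := by
    let H : AddSubgroup Vec :=
      { carrier := {v | sigv f y v = v}
        zero_mem' := h0
        add_mem' := fun {a b} ha hb => by
          show sigv f y _ = _
          rw [sigv_add f h hy, show sigv f y a = a from ha, show sigv f y b = b from hb]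
        neg_mem' := fun {a} ha => by
          rw [show -a = a from funext fun i => ZMod.neg_eq_self_mod_two _]; exact ha }
    have := AddSubgroup.card_addSubgroup_dvd_card H
    rw [Nat.card_eq_fintype_card, Nat.card_eq_fintype_card, show Fintype.card Vec = 16 from rfl] at this
    have e : nfix f y = Fintype.card H := (Fintype.card_of_subtype _ (by intro x; simp [H])).symm
    rw [e]; exact this
  obtain ⟨k, hk, hk'⟩ := (Nat.dvd_prime_pow Nat.prime_two).1 hdvd
  have hr3 : 3 ≤ r := by have := hr.out.two_le; omega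
  rw [hk'] at h16 hne ⊢
  have hd : r ∣ 16 - 2 ^ k := (Nat.modEq_iff_dvd' (by
    calc 2 ^ k ≤ 2 ^ 4 := Nat.pow_le_pow_right (by norm_num) hk
      _ = 16 := rfl)).1 h16
  have hk3 : k ≤ 3 := by
    by_contra! hk3
    obtain rfl : k = 4 := by omega
    exact hne rfl
  -- no element of order seven fixes a line
  have h7 : k = 1 → r ≠ 7 := by
    rintro rfl rfl
    obtain ⟨v₀, hv₀, hv0⟩ := Finset.exists_mem_ne (s := Finset.univ.filter fun v : Vec => sigv f y v = v)
      (show 1 < nfix f y by rw [hk']; norm_num) 0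
    have hv₀' : sigv f y v₀ = v₀ := (Finset.mem_filter.1 hv₀).2
    have hS : ∀ w, σ w ∈ (Finset.univ.filter fun w : Vec => form w v₀ = 0) ↔
        w ∈ Finset.univ.filter fun w : Vec => form w v₀ = 0 := fun w => by
      have e : form (sigv f y w) v₀ = form w v₀ := by
        conv_lhs => rw [← hv₀']
        exact sigv_form f h hy w v₀
      simp [hσdef, sigHom_apply, e]
    have := card_fix_mod σ hσ _ hS
    rw [form_count v₀ hv0] at this
    have hle : ((Finset.univ.filter fun w : Vec => form w v₀ = 0).filter fun v => σ v = v).card ≤ 2 := by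
      refine le_of_le_of_eq (Finset.card_le_card fun v hv =>
        Finset.mem_filter.2 ⟨Finset.mem_univ v, (Finset.mem_filter.1 hv).2⟩) (show nfix f y = 2 by rw [hk']; norm_num)
    have hge : 2 ≤ ((Finset.univ.filter fun w : Vec => form w v₀ = 0).filter fun v => σ v = v).card := by
      refine le_trans (Finset.card_pair hv0).ge (Finset.card_le_card fun v hv => ?_)
      simp only [Finset.mem_insert, Finset.mem_singleton] at hv
      rcases hv with rfl | rfl
      · simp [form_self, hσdef, sigHom_apply, hv₀']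
      · exact Finset.mem_filter.2 ⟨Finset.mem_filter.2 ⟨Finset.mem_univ _, by simp [form]⟩, h0⟩
    unfold Nat.ModEq at this
    omega
  have hrle : r ≤ 15 := (Nat.le_of_dvd (by interval_cases k <;> norm_num) hd).trans (by
    interval_cases k <;> norm_num)
  have hrp := hr.out
  interval_cases k <;> interval_cases r <;> first
    | (exfalso; exact absurd rfl (h7 rfl))
    | (exfalso; revert hrp; norm_num; done)
    | (exfalso; revert hd; norm_num; done)
    | norm_num

theorem trace_product (h : Sys R) (hy : y ∈ Subgroup.normalizer (R : Set (GL ι F))) {r : ℕ} (hr : r.Prime)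
    (hr2 : r ≠ 2) (hyr : y ^ r = 1) :
    (y : Matrix ι ι F).trace * ((y⁻¹ : GL ι F) : Matrix ι ι F).trace = nfix f y := by
  classical
  have h4 : (4 : F) ≠ 0 := by rw [show (4 : F) = 2 * 2 by norm_num]; exact mul_ne_zero h.two h.two
  have key : ∀ v : Vec, ((rep f v : Matrix ι ι F) * y * ((rep f v)⁻¹ : GL ι F) * ((y⁻¹ : GL ι F))).trace =
      if sigv f y v = v then 4 else 0 := by
    intro v
    rw [← Units.val_mul, ← Units.val_mul, ← Units.val_mul]
    split_ifs with hv
    · have e := conj_fixed f h hy hr hr2 hyr hv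
      rw [show rep f v * y * (rep f v)⁻¹ * y⁻¹ = rep f v * (y * rep f v * y⁻¹)⁻¹ by group, e, mul_inv_cancel,
        Units.val_one, Matrix.trace_one, h.dim, Nat.cast_ofNat]
    · have hm := conj_mem hy (rep_mem f v)
      rw [show rep f v * y * (rep f v)⁻¹ * y⁻¹ = rep f v * (y * rep f v * y⁻¹)⁻¹ by group]
      refine trace_eq_zero f h (mul_mem (rep_mem f v) (inv_mem hm)) ?_
      rw [nu_mul f h (rep_mem f v) (inv_mem hm), nu_inv f h hm, nu_rep f h]
      intro e
      exact hv (funext fun i => (CharTwo.add_eq_zero.1 (congrFun e i)).symm)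
  have := congrArg (fun S => (S * ((y⁻¹ : GL ι F) : Matrix ι ι F)).trace) (twirl f h (y : Matrix ι ι F))
  simp only [Finset.sum_mul, Matrix.trace_sum, key, smul_mul_assoc, one_mul, Matrix.trace_smul, smul_eq_mul] at this
  rw [Finset.sum_ite, Finset.sum_const_zero, add_zero, Finset.sum_const, nsmul_eq_mul] at this
  exact mul_left_cancel₀ h4 (by unfold nfix; linear_combination -this)

theorem involution_classes (h : Sys R) (v : Vec) :
    rep f v * rep f v = 1 ↔ v 0 * v 1 + v 2 + v 3 + v 2 * v 3 = 0 := by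
  haveI := h.nonempty
  have hn : (-1 : GL ι F) ≠ 1 := fun e => ne_neg_self h.two 1 e.symm
  have R1 : ∀ {x z : GL ι F} (w : GL ι F), x * z = z * x → x * (z * w) = z * (x * w) := fun w e => by
    rw [← mul_assoc, e, mul_assoc]
  have R2 : ∀ {x z : GL ι F} (w : GL ι F), x * z = -(z * x) → x * (z * w) = -(z * (x * w)) := fun w e => by
    rw [← mul_assoc, e, neg_mul, mul_assoc]
  have S1 : ∀ {x q : GL ι F} (w : GL ι F), x * x = q → x * (x * w) = q * w := fun w e => by rw [← mul_assoc, e]
  have h4 : ∀ x : ZMod 2, x = 0 ∨ x = 1 := by decide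
  rcases h4 (v 0) with h0 | h0 <;> rcases h4 (v 1) with h1 | h1 <;> rcases h4 (v 2) with h2 | h2 <;>
    rcases h4 (v 3) with h3 | h3 <;>
    simp [rep, h0, h1, h2, h3, mul_assoc, f.aa, f.bb, f.cc, f.dd, f.ba, f.dc, f.ca, f.cb, f.da, f.db,
      fun w => R2 w f.ba, fun w => R2 w f.dc, fun w => R1 w f.ca, fun w => R1 w f.cb, fun w => R1 w f.da,
      fun w => R1 w f.db, fun w => S1 w f.aa, fun w => S1 w f.bb, fun w => S1 w f.cc, fun w => S1 w f.dd, hn,
      ZMod.val_zero, ZMod.val_one] <;> decide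

theorem nfix_ne_one (h : Sys R) (hk : ∀ u : Fˣ, sc u ∈ R → u * u = 1)
    (hy : y ∈ Subgroup.normalizer (R : Set (GL ι F))) (hyr : y ^ 3 = 1) : nfix f y ≠ 1 := by
  classical
  haveI : Fact (Nat.Prime 3) := ⟨Nat.prime_three⟩
  set σ := sigHom f h ⟨y, hy⟩ with hσdef
  have hinv : ∀ v, rep f (σ v) * rep f (σ v) = 1 ↔ rep f v * rep f v = 1 := by
    intro v
    obtain ⟨u, hu, e⟩ := eq_rep f h (conj_mem hy (rep_mem f v))
    have e2 : (y * rep f v * y⁻¹) * (y * rep f v * y⁻¹) = rep f (σ v) * rep f (σ v) := by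
      rw [e, hσdef, sigHom_apply, show sigv f y v = nu f (y * rep f v * y⁻¹) from rfl]
      generalize rep f (nu f (y * rep f v * y⁻¹)) = g
      rw [show sc u * g * (sc u * g) = sc u * (g * sc u) * g by group, ← sc_comm,
        show sc u * (sc u * g) * g = sc u * sc u * (g * g) by group, ← map_mul, hk u hu, map_one, one_mul]
    rw [← e2, show y * rep f v * y⁻¹ * (y * rep f v * y⁻¹) = y * (rep f v * rep f v) * y⁻¹ by group, conj_eq_one_iff]
  have h6 : (Finset.univ.filter fun v : Vec => v 0 * v 1 + v 2 + v 3 + v 2 * v 3 = 0).card = 6 := by decide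
  have hS : ∀ v, σ v ∈ (Finset.univ.filter fun v : Vec => v 0 * v 1 + v 2 + v 3 + v 2 * v 3 = 0) ↔
      v ∈ (Finset.univ.filter fun v : Vec => v 0 * v 1 + v 2 + v 3 + v 2 * v 3 = 0) := fun v => by
    simp only [Finset.mem_filter, Finset.mem_univ, true_and, ← involution_classes f h]
    exact hinv v
  have := card_fix_mod σ (sigHom_pow f h hy hyr) _ hS
  rw [h6] at this
  intro e
  have hle : ((Finset.univ.filter fun v : Vec => v 0 * v 1 + v 2 + v 3 + v 2 * v 3 = 0).filter fun v => σ v = v).card ≤ 1 := by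
    exact le_of_le_of_eq (Finset.card_le_card fun v hv =>
      Finset.mem_filter.2 ⟨Finset.mem_univ v, (Finset.mem_filter.1 hv).2⟩) e
  have hpos : 0 < ((Finset.univ.filter fun v : Vec => v 0 * v 1 + v 2 + v 3 + v 2 * v 3 = 0).filter fun v => σ v = v).card := by
    refine Finset.card_pos.2 ⟨0, ?_⟩
    have h0 : sigv f y 0 = 0 := by
      have h1 := sigv_add f h hy 0 0
      rw [add_zero, left_eq_add] at h1
      exact h1
    simp [hσdef, sigHom_apply, h0]
  unfold Nat.ModEq at this
  omega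

include f in
theorem no_transvection (h : Sys R) (hy : y ∈ Subgroup.normalizer (R : Set (GL ι F))) {r : ℕ} [hr : Fact r.Prime]
    (hr2 : r ≠ 2) (hyr : y ^ r = 1) (hns : ¬ ∃ c : Fˣ, y = sc c)
    (hsq : ((y : Matrix ι ι F) - 1) * ((y : Matrix ι ι F) - 1) = 0)
    (hrank : ∀ M : Matrix ι ι F, ∃ t : F, ((y : Matrix ι ι F) - 1) * M * ((y : Matrix ι ι F) - 1) = t • ((y : Matrix ι ι F) - 1)) :
    False := by
  classical
  set N := (y : Matrix ι ι F) - 1 with hN
  have h4 : (4 : F) ≠ 0 := by rw [show (4 : F) = 2 * 2 by norm_num]; exact mul_ne_zero h.two h.two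
  have hy1 : (y : Matrix ι ι F) = 1 + N := by rw [hN]; abel
  have hy2 : ((y⁻¹ : GL ι F) : Matrix ι ι F) = 1 - N := by
    have : (y : Matrix ι ι F) * (1 - N) = 1 := by rw [hy1]; noncomm_ring; rw [hsq]; abel
    exact Units.inv_eq_of_mul_eq_one_right this
  -- the coefficient at a vector
  let co : Vec → Matrix ι ι F → F := fun w M => ((((rep f w)⁻¹ : GL ι F) : Matrix ι ι F) * M).trace
  have hco : ∀ (w : Vec) (g : GL ι F), g ∈ R → nu f g ≠ w → co w g = 0 := fun w g hg hne => by
    show (_ * (g : Matrix ι ι F)).trace = 0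
    rw [← Units.val_mul]
    refine trace_eq_zero f h (mul_mem (inv_mem (rep_mem f w)) hg) ?_
    rw [nu_mul f h (inv_mem (rep_mem f w)) hg, nu_inv f h (rep_mem f w), nu_rep f h]
    intro e
    exact hne (funext fun i => (CharTwo.add_eq_zero.1 (congrFun e i)).symm)
  set σ := sigHom f h ⟨y, hy⟩ with hσdef
  have hkey : ∀ v, sigv f y v ≠ v → co v N ≠ 0 ∧ ∀ w, co w N ≠ 0 → w = v ∨ w = sigv f y v ∨ w = sigv f y (sigv f y v) := by
    intro v hv
    have hA := conj_mem hy (rep_mem f v)
    have hB := conj_mem hy hA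
    have hσB : nu f (y * (y * rep f v * y⁻¹) * y⁻¹) = sigv f y (sigv f y v) := nu_conj f h hy hA
    have hσ2 : sigv f y (sigv f y v) ≠ v := by
      intro e2
      have hp : σ ^ r = 1 := by simpa using sigHom_pow f h hy hyr
      have h2 : (σ ^ 2) v = v := by rw [pow_two]; exact e2
      obtain ⟨j, hj⟩ := hr.out.odd_of_ne_two hr2
      have h3 : ((σ ^ 2) ^ j) v = v := by
        clear hj
        induction j with
        | zero => rfl
        | succ j ih => rw [pow_succ, Equiv.Perm.mul_apply, h2, ih]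
      rw [← pow_mul] at h3
      have h4 : (σ * σ ^ (2 * j)) v = v := by
        rw [← pow_succ', ← hj, hp]; rfl
      rw [Equiv.Perm.mul_apply, h3] at h4
      exact hv h4
    obtain ⟨t, ht⟩ := hrank (rep f v : Matrix ι ι F)
    have e : ((y * (y * rep f v * y⁻¹) * y⁻¹ : GL ι F) : Matrix ι ι F) - (2 : F) • ((y * rep f v * y⁻¹ : GL ι F) : Matrix ι ι F) +
        (rep f v : Matrix ι ι F) = (-2 * t) • N := by
      rw [neg_mul, neg_smul, mul_smul, ← ht]
      simp only [Units.val_mul, hy1, hy2, two_smul]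
      rw [show (1 + N) * ((1 + N) * (rep f v : Matrix ι ι F) * (1 - N)) * (1 - N) =
        (1 + (2 : ℕ) • N + N * N) * (rep f v : Matrix ι ι F) * (1 - (2 : ℕ) • N + N * N) by noncomm_ring, hsq]
      noncomm_ring
    have hv1 : co v (rep f v) = 4 := by
      show (_ * (rep f v : Matrix ι ι F)).trace = 4
      rw [← Units.val_mul, coeff_rep f h, if_pos rfl]
    have hcoe : ∀ w, co w (((y * (y * rep f v * y⁻¹) * y⁻¹ : GL ι F) : Matrix ι ι F)) - 2 * co w ((y * rep f v * y⁻¹ : GL ι F)) +
        co w (rep f v) = (-2 * t) * co w N := fun w => by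
      have := congrArg (co w) e
      simpa [co, mul_add, mul_sub, Matrix.trace_add, Matrix.trace_sub, Matrix.trace_smul] using this
    have hcv := hcoe v
    rw [hco v _ hB (by rw [hσB]; exact hσ2), hco v _ hA hv, hv1] at hcv
    have ht0 : (-2 * t) ≠ 0 := fun e0 => by rw [e0, zero_mul] at hcv; exact h4 (by linear_combination hcv)
    refine ⟨fun e0 => h4 (by rw [e0, mul_zero] at hcv; linear_combination hcv), fun w hw => ?_⟩
    by_contra! hne
    have := hcoe w
    rw [hco w _ hB (by rw [hσB]; exact hne.2.2.symm), hco w _ hA hne.2.1.symm,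
      hco w _ (rep_mem f v) (by rw [nu_rep f h]; exact hne.1.symm), mul_zero, sub_zero, add_zero, eq_comm] at this
    exact hw ((mul_eq_zero.1 this).resolve_left ht0)
  have hns' := nfix_cases f h hy hr2 hyr hns
  obtain ⟨v, hv⟩ : ∃ v, sigv f y v ≠ v := by
    by_contra! hall
    exact hns (scalar_of_trivial f h hy hr.out hr2 hyr hall)
  have hsub : (Finset.univ.filter fun w : Vec => ¬ sigv f y w = w) ⊆ {v, sigv f y v, sigv f y (sigv f y v)} := by
    intro w hw
    have := (hkey v hv).2 w (hkey w (Finset.mem_filter.1 hw).2).1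
    simpa using this
  have h3 := (Finset.card_le_card hsub).trans Finset.card_le_three
  have htot := Finset.card_filter_add_card_filter_not (s := (Finset.univ : Finset Vec)) (fun w => sigv f y w = w)
  rw [Finset.card_univ, show Fintype.card Vec = 16 from rfl] at htot
  unfold nfix at hns'
  omega

end CfsgLib.PauliFour
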