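import Cfsg.Agent.Lib.PauliFour.Common
import Cfsg.Agent.Lib.SemisimpleIso.UnitaryDet
import Cfsg.Agent.Lib.SemisimplePrimeClasses.Unitary
import Cfsg.Prelude.Def_LieClassical

/-! The unitary group as ambient group, and witnesses. -/

set_option autoImplicit false

namespace CfsgLib.PauliFour

open Matrix Polynomial
open CfsgLib.SemisimpleUnitary (st)

variable {F : Type*} [Field F] [Fintype F] {q : ℕ} {σ : F →+* F}

theorem mem_unitary (hσ : ∀ x, σ x = x ^ q) (hσ2 : ∀ x, σ (σ x) = x) (g : GL (Fin 4) F) :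
    g ∈ Cfsg.GU 4 F q ↔ st σ g.1 * g.1 = 1 := by
  have hform : ∀ u v : Fin 4 → F, Cfsg.hermForm 4 F q u v = SemisimpleUnitary.hf σ u v := fun u v => by
    simp [Cfsg.hermForm, SemisimpleUnitary.hf, dotProduct, hσ]
  constructor
  · intro hx
    refine SemisimpleUnitary.ext_hf hσ2 fun u v => ?_
    rw [← Matrix.mulVec_mulVec, ← SemisimpleUnitary.hf_adj hσ2, Matrix.one_mulVec, ← hform, ← hform]
    exact hx u v
  · intro hx u v
    show Cfsg.hermForm 4 F q (g.1 *ᵥ u) (g.1 *ᵥ v) = Cfsg.hermForm 4 F q u v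
    rw [hform, hform, SemisimpleUnitary.hf_map hσ2 hx]

/-- The adjoint map of the hermitian form. -/
def unitaryAdj {R : Subgroup (GL (Fin 4) F)} (hσ : ∀ x, σ x = x ^ q) (hσ2 : ∀ x, σ (σ x) = x)
    (hR : R ≤ Cfsg.GU 4 F q) : Adj R where
  st := st σ
  σ := σ
  st_add := SemisimpleUnitary.st_add
  st_mul := SemisimpleUnitary.st_mul
  st_one := SemisimpleUnitary.st_one
  st_smul c M := by ext i j; simp [SemisimpleUnitary.st]
  det_st M := by
    rw [SemisimpleUnitary.st, Matrix.det_transpose]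
    exact (RingHom.map_det σ M).symm
  onR g hg := (mem_unitary hσ hσ2 g).1 (hR hg)

theorem unitary_conj (hF : Fintype.card F = q ^ 2) {p : ℕ} [Fact p.Prime] [CharP F p] (x : GL (Fin 4) F)
    (hx : x ∈ detOne (Cfsg.GU 4 F q)) (y : GL (Fin 4) F) (hy : y ∈ detOne (Cfsg.GU 4 F q)) (N : ℕ)
    (hN : (N : F) ≠ 0) (hxN : x ^ N = 1) (hyN : y ^ N = 1)
    (hc : (x : Matrix (Fin 4) (Fin 4) F).charpoly = (y : Matrix (Fin 4) (Fin 4) F).charpoly) :
    ∃ g ∈ detOne (Cfsg.GU 4 F q), g⁻¹ * x * g = y := by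
  have hcop : Nat.Coprime N p := by
    refine ((Nat.Prime.coprime_iff_not_dvd Fact.out).2 fun hd => hN ?_).symm
    exact (CharP.cast_eq_zero_iff F p N).2 hd
  let toS : ∀ g : GL (Fin 4) F, g ∈ detOne (Cfsg.GU 4 F q) → ↥(Cfsg.SU 4 F q) := fun g hg =>
    ⟨⟨g.1, congrArg Units.val (MonoidHom.mem_ker.1 hg.2)⟩, fun u v => hg.1 u v⟩
  let ψ : ↥(Cfsg.SU 4 F q) →* GL (Fin 4) F := Matrix.SpecialLinearGroup.toGL.comp (Cfsg.SU 4 F q).subtype
  have hψ : Function.Injective ψ := fun a b e => Subtype.ext (Subtype.ext (congrArg Units.val e))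
  have hψS : ∀ g hg, ψ (toS g hg) = g := fun g hg => Units.ext rfl
  have hord : ∀ g hg, g ^ N = 1 → (orderOf (toS g hg)).Coprime p := fun g hg hgN => by
    rw [← orderOf_injective ψ hψ, hψS g hg]
    exact hcop.coprime_dvd_left (orderOf_dvd_of_pow_eq_one hgN)
  obtain ⟨k, hk⟩ := _root_.isConj_iff.1 (SemisimpleUnitary.su_isConj hF (g := toS y hy) (h := toS x hx)
    (hord y hy hyN) (hord x hx hxN) hc.symm)
  refine ⟨ψ k, ⟨fun u v => k.2 u v, MonoidHom.mem_ker.2 (Units.ext k.1.2)⟩, ?_⟩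
  have := congrArg ψ hk
  rw [map_mul, map_mul, map_inv, hψS x hx, hψS y hy] at this
  rw [← this]; group

theorem amb_unitary (hF : Fintype.card F = q ^ 2) {p : ℕ} [Fact p.Prime] [CharP F p] {R : Subgroup (GL (Fin 4) F)}
    (hR : R ≤ Cfsg.GU 4 F q) : Amb R (Cfsg.GU 4 F q) := by
  obtain ⟨-, σ, hσ⟩ := UnitaryBasic.frob_exists hF
  have hσ2 : ∀ x, σ (σ x) = x := fun x => by rw [hσ, hσ, ← pow_mul, ← sq, ← hF, FiniteField.pow_card]
  exact ⟨fun x hx y hy N _ hN hxN hyN hc => unitary_conj hF (p := p) x hx y hy N hN hxN hyN hc, hR,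
    fun y hy => (mem_unitary hσ hσ2 y).2 (hy (unitaryAdj hσ hσ2 hR))⟩

theorem exists_norm_base (hF : Fintype.card F = q ^ 2) {c : F} (hc : c ^ q = c) : ∃ β : F, β ^ (q + 1) = c := by
  obtain ⟨hq, -⟩ := UnitaryBasic.frob_exists hF
  rcases eq_or_ne c 0 with rfl | hc0
  · exact ⟨0, zero_pow (Nat.succ_ne_zero q)⟩
  obtain ⟨g, hg⟩ := IsCyclic.exists_generator (α := Fˣ)
  obtain ⟨k, hk⟩ := (mem_powers_iff_mem_zpowers.2 (hg (Units.mk0 c hc0)))
  simp only at hk
  have ho : orderOf g = q ^ 2 - 1 := by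
    rw [orderOf_eq_card_of_forall_mem_zpowers hg, Nat.card_units, Nat.card_eq_fintype_card, hF]
  have h1 : g ^ (k * (q - 1)) = 1 := by
    rw [pow_mul, hk]
    apply Units.ext
    rw [Units.val_pow_eq_pow_val, Units.val_mk0, Units.val_one]
    exact mul_right_cancel₀ hc0 (by rw [← pow_succ, Nat.sub_add_cancel (by omega), hc, one_mul])
  rw [← orderOf_dvd_iff_pow_eq_one, ho, show q ^ 2 - 1 = (q + 1) * (q - 1) by
    rw [← one_pow 2, Nat.sq_sub_sq, one_pow]] at h1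
  obtain ⟨j, hj⟩ := Nat.dvd_of_mul_dvd_mul_right (by omega) h1
  refine ⟨((g ^ j : Fˣ) : F), ?_⟩
  rw [← Units.val_pow_eq_pow_val, ← pow_mul, mul_comm j, ← hj, hk, Units.val_mk0]

theorem rts_unitary {p : ℕ} [Fact p.Prime] [CharP F p] (hF : Fintype.card F = p ^ 2) {r k : ℕ}
    (hk : ∀ t : AlgebraicClosure F, t ^ r = 1 → (t ^ p)⁻¹ = t ^ k) {y : GL (Fin 4) F}
    (hyU : y ∈ Cfsg.GU 4 F p) (hy : y ^ r = 1) :
    (rts (y : Matrix (Fin 4) (Fin 4) F)).map (fun t => t ^ k) = rts (y : Matrix (Fin 4) (Fin 4) F) := by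
  obtain ⟨-, σ, hσ⟩ := UnitaryBasic.frob_exists hF
  conv_rhs => rw [show rts (y : Matrix (Fin 4) (Fin 4) F) = SemisimplePrimeClasses.glRoots y from rfl,
    ← SemisimplePrimeClasses.gu_invariant hF p 1 (pow_one p).symm hσ ⟨y, hyU⟩]
  refine Multiset.map_congr rfl fun t ht => ?_
  rw [hk t]
  have := rts_pow (z := 1) (by rw [← Units.val_pow_eq_pow_val, hy, Units.val_one, one_smul]) ht
  rw [this, map_one]

theorem eigen_norm (hF : Fintype.card F = q ^ 2) (h2 : (2 : F) ≠ 0) {x : GL (Fin 4) F} (hx : x ∈ Cfsg.GU 4 F q)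
    {e : Fˣ} (h1 : (x : Matrix (Fin 4) (Fin 4) F) ^ 2 = (e : F) ^ 2 • 1)
    (ht : (x : Matrix (Fin 4) (Fin 4) F).trace = 2 * e) : sc e ∈ Cfsg.GU 4 F q := by
  obtain ⟨-, σ, hσ⟩ := UnitaryBasic.frob_exists hF
  have hσ2 : ∀ x, σ (σ x) = x := fun x => by rw [hσ, hσ, ← pow_mul, ← sq, ← hF, FiniteField.pow_card]
  have hst := (mem_unitary hσ hσ2 x).1 hx
  -- the inverse of `x` is a multiple of `x`
  have hinv : st σ (x : Matrix (Fin 4) (Fin 4) F) = ((e : F) ^ 2)⁻¹ • (x : Matrix (Fin 4) (Fin 4) F) := by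
    have e1 : (x : Matrix (Fin 4) (Fin 4) F) * (((e : F) ^ 2)⁻¹ • (x : Matrix (Fin 4) (Fin 4) F)) = 1 := by
      rw [mul_smul_comm, ← pow_two, h1, smul_smul, inv_mul_cancel₀ (pow_ne_zero _ e.ne_zero), one_smul]
    calc st σ (x : Matrix (Fin 4) (Fin 4) F)
        = st σ (x : Matrix (Fin 4) (Fin 4) F) * ((x : Matrix (Fin 4) (Fin 4) F) * (((e : F) ^ 2)⁻¹ • (x : Matrix (Fin 4) (Fin 4) F))) := by
          rw [e1, mul_one]
      _ = _ := by rw [← mul_assoc, hst, one_mul]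
  have htr : (st σ (x : Matrix (Fin 4) (Fin 4) F)).trace = σ (2 * (e : F)) := by
    rw [← ht, SemisimpleUnitary.st, Matrix.trace_transpose]
    simp [Matrix.trace, map_sum]
  rw [hinv, Matrix.trace_smul, ht, smul_eq_mul, map_mul, map_ofNat] at htr
  have he : σ (e : F) * (e : F) = 1 := by
    have e2 : ((e : F) ^ 2)⁻¹ * (2 * (e : F)) * (e : F) = 2 := by
      rw [mul_assoc, mul_assoc, ← pow_two, mul_left_comm, inv_mul_cancel₀ (pow_ne_zero _ e.ne_zero), mul_one]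
    rw [htr] at e2
    exact mul_left_cancel₀ h2 (by rw [mul_one, ← mul_assoc]; exact e2)
  refine (mem_unitary hσ hσ2 _).2 ?_
  rw [coe_sc]
  ext i j
  fin_cases i <;> fin_cases j <;>
    simp [SemisimpleUnitary.st, Matrix.mul_apply, Fin.sum_univ_four, Matrix.one_apply, he]

end CfsgLib.PauliFour

namespace CfsgLib.PauliFour

open Matrix
open CfsgLib.SemisimpleUnitary (st)

variable {F : Type*} [Field F] [Fintype F] {p : ℕ} [Fact p.Prime] [CharP F p] {R : Subgroup (GL (Fin 4) F)}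

theorem frob_p (hF : Fintype.card F = p ^ 2) : ∃ σ : F →+* F, (∀ x, σ x = x ^ p) ∧ ∀ x, σ (σ x) = x := by
  obtain ⟨-, σ, hσ⟩ := UnitaryBasic.frob_exists hF
  exact ⟨σ, hσ, fun x => by rw [hσ, hσ, ← pow_mul, ← sq, ← hF, FiniteField.pow_card]⟩

theorem unitary_transvection (hF : Fintype.card F = p ^ 2) (h : Sys R) (f : Frame R) (hp2 : p ≠ 2) {c : F} (hc0 : c ≠ 0)
    (hc : c ^ p = -c) : ¬ AllConj R (Cfsg.GU 4 F p) p := by
  haveI := h.nonempty
  obtain ⟨σ, hσ, hσ2⟩ := frob_p hF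
  obtain ⟨a, ha⟩ := exists_norm_base hF (c := (-1 : F)) (by
    rw [(Fact.out : p.Prime).odd_of_ne_two hp2 |>.neg_one_pow])
  have ha0 : a ≠ 0 := fun e => by rw [e, zero_pow (Nat.succ_ne_zero p)] at ha; exact neg_ne_zero.2 one_ne_zero ha.symm
  set v : Fin 4 → F := ![1, a, 0, 0] with hv
  set N : Matrix (Fin 4) (Fin 4) F := c • Matrix.vecMulVec v (σ ∘ v) with hN
  have hdot : (σ ∘ v) ⬝ᵥ v = 0 := by
    simp [dotProduct, Fin.sum_univ_four, hv, hσ, ← pow_succ, ha, zero_pow (Fact.out : p.Prime).ne_zero]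
  have hmul : ∀ M : Matrix (Fin 4) (Fin 4) F, N * M * N = (c * ((σ ∘ v) ⬝ᵥ (M *ᵥ v))) • N := by
    intro M
    rw [hN, smul_mul_assoc, smul_mul_assoc, mul_smul_comm, Matrix.mul_assoc, Matrix.mul_vecMulVec, Matrix.vecMulVec_mul_vecMulVec,
      smul_smul, Matrix.vecMulVec_smul, smul_smul, smul_smul]
    congr 1; ring
  have hNN : N * N = 0 := by
    have := hmul 1
    rwa [mul_one, Matrix.one_mulVec, hdot, mul_zero, zero_smul] at this
  have hstN : st σ N = -N := by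
    ext i j
    simp [hN, SemisimpleUnitary.st, Matrix.vecMulVec_apply, hσ2]
    rw [show σ c = -c by rw [hσ, hc]]; ring
  have hxp : (1 + N) ^ p = 1 := by
    rw [add_pow_char_of_commute (p := p) (h := Commute.one_left N), one_pow,
      pow_eq_zero_of_le (show 2 ≤ p from (Fact.out : p.Prime).two_le) (by rw [pow_two, hNN]), add_zero]
  have hd : (1 + N).det = 1 := by
    have h1 := congrArg Matrix.det hxp
    rw [Matrix.det_pow, Matrix.det_one] at h1
    exact frobenius_inj F p (by rw [frobenius_def, map_one, h1])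
  set x : GL (Fin 4) F := GeneralLinearGroup.mkOfDetNeZero (1 + N) (by rw [hd]; exact one_ne_zero)
  have hx : (x : Matrix (Fin 4) (Fin 4) F) = 1 + N := rfl
  have hx1 : (x : Matrix (Fin 4) (Fin 4) F) - 1 = N := by rw [hx, add_sub_cancel_left]
  refine neg_transvection h f hp2 (x := x) ⟨(mem_unitary hσ hσ2 x).2 ?_, MonoidHom.mem_ker.2 (Units.ext hd)⟩ ?_ ?_
    (hx1 ▸ hNN) fun M => ⟨_, by rw [hx1]; exact hmul M⟩
  · rw [hx, SemisimpleUnitary.st_add, SemisimpleUnitary.st_one, hstN, ← sub_eq_add_neg, sub_mul, mul_add, mul_add,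
      one_mul, one_mul, mul_one, hNN]
    abel
  · exact Units.ext (by rw [Units.val_pow_eq_pow_val, hx, hxp, Units.val_one])
  · rintro ⟨d, hd'⟩
    have := congrArg (fun w : GL (Fin 4) F => (w : Matrix (Fin 4) (Fin 4) F) 1 0) hd'
    rw [hx, coe_sc, hN] at this
    simp only [Matrix.add_apply, Matrix.smul_apply, Matrix.vecMulVec_apply, Function.comp_apply] at this
    simp [hv, hc0, ha0, hσ] at this

theorem unitary_rotation (hF : Fintype.card F = p ^ 2) (hp2 : p ≠ 2) (h5 : (5 : F) ≠ 0) {τ : F} (hτ : τ ^ 2 + τ = 1) (hτp : τ ^ p = τ) :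
    ∃ x : GL (Fin 4) F, x ∈ detOne (Cfsg.GU 4 F p) ∧ x ^ 5 = 1 ∧ (¬ ∃ c : Fˣ, x = sc c) ∧
      (x : Matrix (Fin 4) (Fin 4) F).trace = 2 + τ ∧ ((x⁻¹ : GL (Fin 4) F) : Matrix (Fin 4) (Fin 4) F).trace = 2 + τ := by
  obtain ⟨σ, hσ, hσ2⟩ := frob_p hF
  have h2 : (2 : F) ≠ 0 := by exact_mod_cast (small_cast (p := p) Nat.prime_two hp2 : ((2 : ℕ) : F) ≠ 0)
  set α : F := τ / 2 with hα
  have hασ : σ α = α := by rw [hα, map_div₀, map_ofNat, hσ, hτp]
  obtain ⟨β, hβ⟩ := exists_norm_base hF (c := 1 - α * α) (by rw [← hσ, map_sub, map_one, map_mul, hασ])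
  have hβ' : β * σ β = 1 - α * α := by rw [hσ, ← pow_succ', hβ]
  have h2α : τ = α + α := by rw [hα]; field_simp; ring
  set M : Matrix (Fin 4) (Fin 4) F := !![α, β, 0, 0; -σ β, α, 0, 0; 0, 0, 1, 0; 0, 0, 0, 1] with hM
  have hpow : M ^ 5 = 1 := five_pow hτ (by
    rw [hM, h2α]; ext a b
    fin_cases a <;> fin_cases b <;> simp [Matrix.mul_apply, Fin.sum_univ_four, Matrix.one_apply] <;>
      first
        | ring1
        | linear_combination (1 - α) * hβ'
        | linear_combination (-1 + α) * hβ'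
        | linear_combination -β * hβ'
        | linear_combination β * hβ'
        | linear_combination σ β * hβ'
        | linear_combination -σ β * hβ')
  have hd : M.det = 1 := by
    rw [hM, Matrix.det_succ_row_zero]
    simp [Fin.sum_univ_succ, Matrix.det_fin_three, Fin.succAbove]
    linear_combination hβ'
  have hst : st σ M * M = 1 := by
    rw [hM]; ext a b
    fin_cases a <;> fin_cases b <;>
      simp [SemisimpleUnitary.st, Matrix.mul_apply, Fin.sum_univ_four, Matrix.one_apply, hασ, hσ2] <;>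
      first
        | ring1
        | linear_combination hβ'
        | linear_combination -hβ'
  refine ⟨GeneralLinearGroup.mkOfDetNeZero M (by rw [hd]; exact one_ne_zero),
    ⟨(mem_unitary hσ hσ2 _).2 hst, MonoidHom.mem_ker.2 (Units.ext hd)⟩, Units.ext hpow, ?_, ?_, ?_⟩
  · rintro ⟨c, hc⟩
    have h01 := congrArg (fun w : GL (Fin 4) F => (w : Matrix (Fin 4) (Fin 4) F) 0 1) hc
    have h00 := congrArg (fun w : GL (Fin 4) F => (w : Matrix (Fin 4) (Fin 4) F) 0 0) hc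
    have h22 := congrArg (fun w : GL (Fin 4) F => (w : Matrix (Fin 4) (Fin 4) F) 2 2) hc
    simp [hM, Matrix.GeneralLinearGroup.mkOfDetNeZero] at h01 h00 h22
    rw [h2α, h00.trans h22.symm] at hτ
    exact h5 (by linear_combination hτ)
  · rw [show ((GeneralLinearGroup.mkOfDetNeZero M _ : GL (Fin 4) F) : Matrix (Fin 4) (Fin 4) F) = M from rfl, hM, h2α]
    simp [Matrix.trace, Fin.sum_univ_four]; ring
  · rw [Units.inv_eq_of_mul_eq_one_left (u := GeneralLinearGroup.mkOfDetNeZero M _) (a := st σ M) hst, h2α]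
    simp [hM, SemisimpleUnitary.st, Matrix.trace, Fin.sum_univ_four, hασ]; ring

end CfsgLib.PauliFour
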