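import Cfsg.Agent.Lib.PauliFour.Normal

/-! Elements of the normaliser built from anticommuting involutions. -/

set_option autoImplicit false

namespace CfsgLib.PauliFour

open Matrix

variable {F : Type*} [Field F] {ι : Type} [Fintype ι] [DecidableEq ι] {R : Subgroup (GL ι F)}

theorem sq_diff {A : Type*} [Ring A] {x z : A} (hx : x * x = 1) (hz : z * z = 1) (hxz : z * x = -(x * z)) :
    (x - z) * (x - z) = 1 + 1 := by
  rw [sub_mul, mul_sub, mul_sub, hx, hz, hxz]; abel

theorem coe_sq_one {x : GL ι F} (hx : x * x = 1) : (x : Matrix ι ι F) * x = 1 := congrArg Units.val hx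

theorem coe_anti {x z : GL ι F} (h : z * x = -(x * z)) : (z : Matrix ι ι F) * x = -((x : Matrix ι ι F) * z) :=
  congrArg Units.val h

/-- The difference of two anticommuting involutions. -/
def diffUnit (h2 : (2 : F) ≠ 0) {x z : GL ι F} (hx : x * x = 1) (hz : z * z = 1) (hxz : z * x = -(x * z)) : GL ι F where
  val := (x : Matrix ι ι F) - z
  inv := (2 : F)⁻¹ • ((x : Matrix ι ι F) - z)
  val_inv := by
    rw [mul_smul_comm, sq_diff (coe_sq_one hx) (coe_sq_one hz) (coe_anti hxz),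
      ← two_smul F (1 : Matrix ι ι F), smul_smul, inv_mul_cancel₀ h2, one_smul]
  inv_val := by
    rw [smul_mul_assoc, sq_diff (coe_sq_one hx) (coe_sq_one hz) (coe_anti hxz),
      ← two_smul F (1 : Matrix ι ι F), smul_smul, inv_mul_cancel₀ h2, one_smul]

variable (h2 : (2 : F) ≠ 0) {x z : GL ι F} (hx : x * x = 1) (hz : z * z = 1) (hxz : z * x = -(x * z))

theorem diff_conj_left : diffUnit h2 hx hz hxz * x * (diffUnit h2 hx hz hxz)⁻¹ = -z := by
  rw [mul_inv_eq_iff_eq_mul]
  refine Units.ext ?_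
  show ((x : Matrix ι ι F) - z) * x = -(z : Matrix ι ι F) * (x - z)
  rw [sub_mul, mul_sub, neg_mul, neg_mul, coe_sq_one hx, coe_sq_one hz, coe_anti hxz]; abel

theorem diff_conj_right : diffUnit h2 hx hz hxz * z * (diffUnit h2 hx hz hxz)⁻¹ = -x := by
  rw [mul_inv_eq_iff_eq_mul]
  refine Units.ext ?_
  show ((x : Matrix ι ι F) - z) * z = -(x : Matrix ι ι F) * (x - z)
  rw [sub_mul, mul_sub, neg_mul, neg_mul, coe_sq_one hx, coe_sq_one hz]; abel

theorem diff_conj_other {w : GL ι F} (hxw : x * w = -(w * x)) (hzw : z * w = -(w * z)) :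
    diffUnit h2 hx hz hxz * w * (diffUnit h2 hx hz hxz)⁻¹ = -w := by
  rw [mul_inv_eq_iff_eq_mul]
  refine Units.ext ?_
  show ((x : Matrix ι ι F) - z) * w = -(w : Matrix ι ι F) * (x - z)
  rw [sub_mul, mul_sub, neg_mul, neg_mul, coe_anti hxw, coe_anti hzw]

/-- The element `1 + i x`. -/
def sumUnit (h2 : (2 : F) ≠ 0) (hx : x * x = 1) {i : F} (hi : i * i = -1) : GL ι F where
  val := 1 + i • (x : Matrix ι ι F)
  inv := (2 : F)⁻¹ • (1 - i • (x : Matrix ι ι F))
  val_inv := by
    rw [mul_smul_comm, add_mul, mul_sub, mul_sub, one_mul, one_mul, mul_one, smul_mul_smul_comm, hi, coe_sq_one hx,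
      neg_one_smul, show (1 : Matrix ι ι F) - i • (x : Matrix ι ι F) + (i • (x : Matrix ι ι F) - -1) = 1 + 1 by abel,
      ← two_smul F (1 : Matrix ι ι F), smul_smul, inv_mul_cancel₀ h2, one_smul]
  inv_val := by
    rw [smul_mul_assoc, sub_mul, mul_add, mul_add, one_mul, one_mul, mul_one, smul_mul_smul_comm, hi, coe_sq_one hx,
      neg_one_smul, show (1 : Matrix ι ι F) + i • (x : Matrix ι ι F) - (i • (x : Matrix ι ι F) + -1) = 1 + 1 by abel,
      ← two_smul F (1 : Matrix ι ι F), smul_smul, inv_mul_cancel₀ h2, one_smul]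

theorem sum_conj_self {i : F} (hi : i * i = -1) : sumUnit h2 hx hi * x * (sumUnit h2 hx hi)⁻¹ = x := by
  rw [mul_inv_eq_iff_eq_mul]
  refine Units.ext ?_
  show (1 + i • (x : Matrix ι ι F)) * x = (x : Matrix ι ι F) * (1 + i • (x : Matrix ι ι F))
  rw [add_mul, mul_add, one_mul, mul_one, smul_mul_assoc, mul_smul_comm]

theorem sum_conj_other {i : Fˣ} (hi : (i : F) * i = -1) {w : GL ι F} (hxw : x * w = -(w * x)) :
    sumUnit h2 hx hi * w * (sumUnit h2 hx hi)⁻¹ = sc i * x * w := by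
  rw [mul_inv_eq_iff_eq_mul]
  refine Units.ext ?_
  show (1 + (i : F) • (x : Matrix ι ι F)) * w = ((sc i : GL ι F) : Matrix ι ι F) * x * w * (1 + (i : F) • (x : Matrix ι ι F))
  have e : (x : Matrix ι ι F) * w * x = -(w : Matrix ι ι F) := by
    rw [coe_anti hxw, neg_mul, mul_assoc, coe_sq_one hx, mul_one]
  simp only [coe_sc, smul_mul_assoc, one_mul, mul_add, mul_one, mul_smul_comm, add_mul, smul_smul, smul_add, hi, e,
    neg_smul, one_smul, smul_neg, neg_neg]
  abel

/-- The reflection attached to two commuting involutions. -/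
def reflUnit (h2 : (2 : F) ≠ 0) {A B : GL ι F} (hA : A * A = 1) (hB : B * B = 1) (hAB : B * A = A * B) : GL ι F where
  val := (2 : F)⁻¹ • (1 + (A : Matrix ι ι F) + B - A * B)
  inv := (2 : F)⁻¹ • (1 + (A : Matrix ι ι F) + B - A * B)
  val_inv := refl_sq h2 hA hB hAB
  inv_val := refl_sq h2 hA hB hAB
where
  refl_sq (h2 : (2 : F) ≠ 0) {A B : GL ι F} (hA : A * A = 1) (hB : B * B = 1) (hAB : B * A = A * B) :
      ((2 : F)⁻¹ • (1 + (A : Matrix ι ι F) + B - A * B)) * ((2 : F)⁻¹ • (1 + (A : Matrix ι ι F) + B - A * B)) = 1 := by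
    have c : (B : Matrix ι ι F) * A = (A : Matrix ι ι F) * B := congrArg Units.val hAB
    have a1 : ∀ M : Matrix ι ι F, (A : Matrix ι ι F) * ((A : Matrix ι ι F) * M) = M := fun M => by
      rw [← mul_assoc, coe_sq_one hA, one_mul]
    have c1 : ∀ M : Matrix ι ι F, (B : Matrix ι ι F) * ((A : Matrix ι ι F) * M) = (A : Matrix ι ι F) * ((B : Matrix ι ι F) * M) :=
      fun M => by rw [← mul_assoc, c, mul_assoc]
    have h4 : (1 + (A : Matrix ι ι F) + B - A * B) * (1 + (A : Matrix ι ι F) + B - A * B) = (4 : F) • 1 := by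
      simp only [mul_add, add_mul, mul_sub, sub_mul, one_mul, mul_one, mul_assoc, coe_sq_one hA, coe_sq_one hB, c, a1, c1]
      module
    rw [smul_mul_smul_comm, h4, smul_smul, show (2 : F)⁻¹ * 2⁻¹ * 4 = 1 by field_simp; norm_num, one_smul]

theorem coe_refl {A B : GL ι F} (hA : A * A = 1) (hB : B * B = 1) (hAB : B * A = A * B) :
    ((reflUnit h2 hA hB hAB : GL ι F) : Matrix ι ι F) = (2 : F)⁻¹ • (1 + (A : Matrix ι ι F) + B - A * B) := rfl

theorem refl_conj {A B w : GL ι F} (hA : A * A = 1) (hB : B * B = 1) (hAB : B * A = A * B)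
    (hAw : A * w = -(w * A)) (hBw : B * w = w * B) :
    reflUnit h2 hA hB hAB * w * (reflUnit h2 hA hB hAB)⁻¹ = w * B := by
  have c : (B : Matrix ι ι F) * A = (A : Matrix ι ι F) * B := congrArg Units.val hAB
  have a1 : ∀ M : Matrix ι ι F, (A : Matrix ι ι F) * ((A : Matrix ι ι F) * M) = M := fun M => by
    rw [← mul_assoc, coe_sq_one hA, one_mul]
  have c1 : ∀ M : Matrix ι ι F, (B : Matrix ι ι F) * ((A : Matrix ι ι F) * M) = (A : Matrix ι ι F) * ((B : Matrix ι ι F) * M) :=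
    fun M => by rw [← mul_assoc, c, mul_assoc]
  have wA : (A : Matrix ι ι F) * w = -((w : Matrix ι ι F) * A) := coe_anti hAw
  have wB : (B : Matrix ι ι F) * w = (w : Matrix ι ι F) * B := congrArg Units.val hBw
  have wA1 : ∀ M : Matrix ι ι F, (A : Matrix ι ι F) * ((w : Matrix ι ι F) * M) = -((w : Matrix ι ι F) * ((A : Matrix ι ι F) * M)) :=
    fun M => by rw [← mul_assoc, wA, neg_mul, mul_assoc]
  have wB1 : ∀ M : Matrix ι ι F, (B : Matrix ι ι F) * ((w : Matrix ι ι F) * M) = (w : Matrix ι ι F) * ((B : Matrix ι ι F) * M) :=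
    fun M => by rw [← mul_assoc, wB, mul_assoc]
  rw [mul_inv_eq_iff_eq_mul]
  refine Units.ext ?_
  rw [Units.val_mul, Units.val_mul, Units.val_mul, coe_refl]
  simp only [smul_mul_assoc, mul_smul_comm]
  congr 1
  simp only [mul_add, add_mul, mul_sub, sub_mul, one_mul, mul_one, mul_assoc, coe_sq_one hB, c, c1, wA, wB, wA1, wB1,
    mul_neg]
  abel

end CfsgLib.PauliFour
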