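import Cfsg.Agent.Lib.PauliFour.Units

/-! Elements of orders two, three and five of the normaliser. -/

set_option autoImplicit false

namespace CfsgLib.PauliFour

open Matrix

variable {F : Type*} [Field F] {ι : Type} [Fintype ι] [DecidableEq ι] {R : Subgroup (GL ι F)}

/-- An adjoint map for which the elements of `R` are isometries. -/
structure Adj (R : Subgroup (GL ι F)) where
  st : Matrix ι ι F → Matrix ι ι F
  σ : F →+* F
  st_add : ∀ M N, st (M + N) = st M + st N
  st_mul : ∀ M N, st (M * N) = st N * st M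
  st_one : st 1 = 1
  st_smul : ∀ (c : F) M, st (c • M) = σ c • st M
  det_st : ∀ M, (st M).det = σ M.det
  onR : ∀ g ∈ R, st (g : Matrix ι ι F) * g = 1

/-- Isometries. -/
def Adj.Iso (A : Adj R) (g : GL ι F) : Prop := A.st (g : Matrix ι ι F) * g = 1

/-- Similitudes. -/
def Adj.Sim (A : Adj R) (g : GL ι F) : Prop := ∃ c : F, A.st (g : Matrix ι ι F) * g = c • 1

theorem Adj.st_neg (A : Adj R) (M : Matrix ι ι F) : A.st (-M) = -A.st M := by
  rw [← neg_one_smul F M, A.st_smul, map_neg, map_one, neg_one_smul]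

theorem Adj.sim_mul (A : Adj R) {g h : GL ι F} (hg : A.Sim g) (hh : A.Sim h) : A.Sim (g * h) := by
  obtain ⟨c, hc⟩ := hg
  obtain ⟨d, hd⟩ := hh
  refine ⟨c * d, ?_⟩
  rw [Units.val_mul, A.st_mul, mul_assoc, ← mul_assoc (A.st (g : Matrix ι ι F)), hc, smul_mul_assoc, one_mul,
    mul_smul_comm, hd, smul_smul]

theorem Adj.sim_pow (A : Adj R) {g : GL ι F} {c : F} (hg : A.st (g : Matrix ι ι F) * g = c • 1) (n : ℕ) :
    A.st ((g ^ n : GL ι F) : Matrix ι ι F) * ((g ^ n : GL ι F) : Matrix ι ι F) = c ^ n • 1 := by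
  induction n with
  | zero => simp [A.st_one]
  | succ n ih =>
    rw [pow_succ g, Units.val_mul, A.st_mul, mul_assoc, ← mul_assoc (A.st ((g ^ n : GL ι F) : Matrix ι ι F)), ih,
      smul_mul_assoc, one_mul, mul_smul_comm, hg, smul_smul, pow_succ]

theorem Adj.fix_invol (A : Adj R) {x : GL ι F} (hx : x ∈ R) (h1 : x * x = 1) :
    A.st (x : Matrix ι ι F) = (x : Matrix ι ι F) := by
  calc A.st (x : Matrix ι ι F) = A.st (x : Matrix ι ι F) * ((x : Matrix ι ι F) * x) := by rw [coe_sq_one h1, mul_one]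
    _ = _ := by rw [← mul_assoc, A.onR x hx, one_mul]

theorem Adj.sim_diff (A : Adj R) (h2 : (2 : F) ≠ 0) {x z : GL ι F} (hxR : x ∈ R) (hzR : z ∈ R) (hx : x * x = 1)
    (hz : z * z = 1) (hxz : z * x = -(x * z)) : A.Sim (diffUnit h2 hx hz hxz) := by
  refine ⟨2, ?_⟩
  show A.st ((x : Matrix ι ι F) - z) * ((x : Matrix ι ι F) - z) = _
  rw [sub_eq_add_neg, A.st_add, A.st_neg, A.fix_invol hxR hx, A.fix_invol hzR hz, ← sub_eq_add_neg,
    sq_diff (coe_sq_one hx) (coe_sq_one hz) (coe_anti hxz), ← two_smul F (1 : Matrix ι ι F)]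

theorem Adj.conj_i (A : Adj R) [Nonempty ι] {i : Fˣ} (hi : (i : F) * i = -1) (hiR : sc i ∈ R) : A.σ i = -(i : F) := by
  have := A.onR _ hiR
  rw [coe_sc, A.st_smul, A.st_one, smul_mul_smul_comm, one_mul] at this
  have e : A.σ i * i = 1 := smul_left_injective F (one_ne_zero (α := Matrix ι ι F)) (by simpa using this)
  calc A.σ i = -(A.σ i * ((i : F) * i)) := by rw [hi]; ring
    _ = -(i : F) := by rw [← mul_assoc, e, one_mul]

theorem Adj.sim_sum (A : Adj R) [Nonempty ι] (h2 : (2 : F) ≠ 0) {x : GL ι F} (hxR : x ∈ R) (hx : x * x = 1) {i : Fˣ}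
    (hi : (i : F) * i = -1) (hiR : sc i ∈ R) : A.Sim (sumUnit h2 hx hi) := by
  refine ⟨2, ?_⟩
  show A.st (1 + (i : F) • (x : Matrix ι ι F)) * (1 + (i : F) • (x : Matrix ι ι F)) = _
  rw [A.st_add, A.st_one, A.st_smul, A.fix_invol hxR hx, A.conj_i hi hiR, add_mul, mul_add, mul_add, one_mul, one_mul,
    mul_one, smul_mul_smul_comm, coe_sq_one hx, neg_mul, hi, neg_neg, neg_smul, two_smul]
  rw [one_smul]; abel

variable (f : Frame R)

/-- Five pairwise anticommuting involutions. -/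
def gam : Fin 5 → GL ι F := ![f.a, f.b, f.a * f.b * f.c, f.a * f.b * f.d, f.a * f.b * (f.c * f.d)]

theorem gam_mem (k : Fin 5) : gam f k ∈ R := by
  fin_cases k <;> simp only [gam] <;>
    first
      | exact f.ha
      | exact f.hb
      | exact mul_mem (mul_mem f.ha f.hb) f.hc
      | exact mul_mem (mul_mem f.ha f.hb) f.hd
      | exact mul_mem (mul_mem f.ha f.hb) (mul_mem f.hc f.hd)

theorem gam_rel (j k : Fin 5) : gam f j * gam f j = 1 ∧ (j ≠ k → gam f k * gam f j = -(gam f j * gam f k)) := by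
  have R1 : ∀ {x z : GL ι F} (w : GL ι F), x * z = z * x → x * (z * w) = z * (x * w) := fun w e => by
    rw [← mul_assoc, e, mul_assoc]
  have R2 : ∀ {x z : GL ι F} (w : GL ι F), x * z = -(z * x) → x * (z * w) = -(z * (x * w)) := fun w e => by
    rw [← mul_assoc, e, neg_mul, mul_assoc]
  have S1 : ∀ {x q : GL ι F} (w : GL ι F), x * x = q → x * (x * w) = q * w := fun w e => by rw [← mul_assoc, e]
  fin_cases j <;> fin_cases k <;>
    simp [gam, mul_assoc, f.aa, f.bb, f.cc, f.dd, f.ba, f.dc, f.ca, f.cb, f.da, f.db,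
      fun w => R2 w f.ba, fun w => R2 w f.dc, fun w => R1 w f.ca, fun w => R1 w f.cb, fun w => R1 w f.da,
      fun w => R1 w f.db, fun w => S1 w f.aa, fun w => S1 w f.bb, fun w => S1 w f.cc, fun w => S1 w f.dd]

theorem gam_sq (j : Fin 5) : gam f j * gam f j = 1 := (gam_rel f j j).1

theorem gam_anti {j k : Fin 5} (h : j ≠ k) : gam f k * gam f j = -(gam f j * gam f k) := (gam_rel f j k).2 h

theorem gam_ne (h : Sys R) {j k : Fin 5} (hjk : j ≠ k) : gam f j ≠ gam f k := fun e => by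
  haveI := h.nonempty
  have := gam_anti f hjk
  rw [e] at this
  exact ne_neg_self h.two _ this

/-- The transposition element. -/
def U (h : Sys R) (j k : Fin 5) (hjk : j ≠ k) : GL ι F :=
  diffUnit h.two (gam_sq f j) (gam_sq f k) (gam_anti f hjk)

theorem U_conj (h : Sys R) (j k : Fin 5) (hjk : j ≠ k) (l : Fin 5) :
    MulAut.conj (U f h j k hjk) (gam f l) = -gam f (Equiv.swap j k l) := by
  rw [MulAut.conj_apply, U]
  rcases eq_or_ne l j with rfl | hj
  · rw [Equiv.swap_apply_left, diff_conj_left]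
  rcases eq_or_ne l k with rfl | hk
  · rw [Equiv.swap_apply_right, diff_conj_right]
  · rw [Equiv.swap_apply_of_ne_of_ne hj hk, diff_conj_other _ _ _ _ (gam_anti f hj) (gam_anti f hk)]

theorem conj_neg' (u x : GL ι F) : MulAut.conj u (-x) = -MulAut.conj u x := by
  simp [MulAut.conj_apply]

theorem mem_norm (h : Sys R) {y : GL ι F} (hy : ∀ k, MulAut.conj y (gam f k) ∈ R) :
    y ∈ Subgroup.normalizer (R : Set (GL ι F)) := by
  haveI := h.fin
  set φ := (MulAut.conj y).toMonoidHom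
  have ha : φ f.a ∈ R := hy 0
  have hb : φ f.b ∈ R := hy 1
  have hc : φ f.c ∈ R := by
    have e : f.c = (f.a * f.b)⁻¹ * gam f 2 := by simp [gam, mul_assoc]
    rw [e, map_mul, map_inv, map_mul]
    exact mul_mem (inv_mem (mul_mem ha hb)) (hy 2)
  have hd : φ f.d ∈ R := by
    have e : f.d = (f.a * f.b)⁻¹ * gam f 3 := by simp [gam, mul_assoc]
    rw [e, map_mul, map_inv, map_mul]
    exact mul_mem (inv_mem (mul_mem ha hb)) (hy 3)
  have hmap : ∀ x ∈ R, φ x ∈ R := by
    intro x hx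
    obtain ⟨u, hu, e⟩ := eq_rep f h hx
    rw [e, map_mul, rep, map_mul, map_mul, map_mul, map_pow, map_pow, map_pow, map_pow]
    refine mul_mem ?_ (mul_mem (mul_mem (mul_mem (pow_mem ha _) (pow_mem hb _)) (pow_mem hc _)) (pow_mem hd _))
    rw [show φ (sc u) = y * sc u * y⁻¹ from rfl, ← sc_comm, mul_inv_cancel_right]
    exact hu
  have he : R.map φ = R := Subgroup.eq_of_le_of_card_ge (by rintro _ ⟨x, hx, rfl⟩; exact hmap x hx)
    (Subgroup.card_map_of_injective (f := φ) (MulAut.conj y).injective).ge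
  refine Subgroup.mem_normalizer_iff.2 fun x => ⟨hmap x, fun hx => ?_⟩
  rw [← he] at hx
  obtain ⟨x', hx', e⟩ := hx
  rwa [(MulAut.conj y).injective (e.trans rfl : MulAut.conj y x' = MulAut.conj y x)] at hx'

theorem normalise (h : Sys R) {r : ℕ} (hr : r.Prime) (hr2 : r ≠ 2) {y₀ : GL ι F}
    (hy : y₀ ∈ Subgroup.normalizer (R : Set (GL ι F))) (hpow : ∀ k, MulAut.conj (y₀ ^ r) (gam f k) = gam f k)
    (hne : MulAut.conj y₀ (gam f 0) ≠ gam f 0) :
    ∃ y ∈ Subgroup.normalizer (R : Set (GL ι F)), GeneralLinearGroup.det y = 1 ∧ y ^ r = 1 ∧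
      (¬ ∃ c : Fˣ, y = sc c) ∧ (∀ g, MulAut.conj y g = MulAut.conj (y₀ ^ 4) g) ∧
      (∀ A : Adj R, A.Sim y₀ → A.Iso y) := by
  haveI := h.nonempty
  have hN := pow_mem hy r
  have hcomm : ∀ k, Commute (y₀ ^ r) (gam f k) := fun k => mul_inv_eq_iff_eq_mul.1 (hpow k)
  obtain ⟨c, hc⟩ : ∃ c : Fˣ, y₀ ^ r = sc c := by
    refine h.central fun x hx => ?_
    have hC : ∀ {g : GL ι F}, g ∈ R → Commute (y₀ ^ r) g → g ∈ Subgroup.centralizer ({y₀ ^ r} : Set (GL ι F)) :=
      fun _ hg => Subgroup.mem_centralizer_singleton_iff.2 hg.symm.eq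
    have ha := hC f.ha (hcomm 0)
    have hb := hC f.hb (hcomm 1)
    have hc' : f.c ∈ Subgroup.centralizer ({y₀ ^ r} : Set (GL ι F)) := by
      rw [show f.c = (f.a * f.b)⁻¹ * gam f 2 by simp [gam, mul_assoc]]
      exact mul_mem (inv_mem (mul_mem ha hb)) (hC (gam_mem f 2) (hcomm 2))
    have hd' : f.d ∈ Subgroup.centralizer ({y₀ ^ r} : Set (GL ι F)) := by
      rw [show f.d = (f.a * f.b)⁻¹ * gam f 3 by simp [gam, mul_assoc]]
      exact mul_mem (inv_mem (mul_mem ha hb)) (hC (gam_mem f 3) (hcomm 3))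
    obtain ⟨u, -, e⟩ := eq_rep f h hx
    rw [e]
    exact (Subgroup.mem_centralizer_singleton_iff.1 (mul_mem
      (Subgroup.mem_centralizer_singleton_iff.2 (sc_comm u _))
      (mul_mem (mul_mem (mul_mem (pow_mem ha _) (pow_mem hb _)) (pow_mem hc' _)) (pow_mem hd' _)))).symm
  set δ := GeneralLinearGroup.det y₀ with hδ
  have hdet_sc : ∀ u : Fˣ, GeneralLinearGroup.det (sc u : GL ι F) = u ^ 4 := fun u => Units.ext (by
    show Matrix.det ((sc u : GL ι F) : Matrix ι ι F) = _
    rw [coe_sc, Matrix.det_smul, Matrix.det_one, mul_one, h.dim, Units.val_pow_eq_pow_val])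
  have hδr : δ ^ r = c ^ 4 := by rw [hδ, ← map_pow, hc, hdet_sc]
  have hconj : ∀ g, MulAut.conj (sc δ⁻¹ * y₀ ^ 4) g = MulAut.conj (y₀ ^ 4) g := fun g => by
    rw [map_mul, MulAut.mul_apply, MulAut.conj_apply, sc_comm, mul_inv_cancel_right]
  have hscN : sc δ⁻¹ ∈ Subgroup.normalizer (R : Set (GL ι F)) := Subgroup.mem_normalizer_iff.2 fun g => by
    rw [sc_comm, mul_inv_cancel_right]
  refine ⟨sc δ⁻¹ * y₀ ^ 4, mul_mem hscN (pow_mem hy 4), ?_, ?_, ?_, hconj, ?_⟩
  · rw [map_mul, hdet_sc, map_pow, ← hδ, inv_pow, inv_mul_cancel]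
  · rw [(show Commute (sc δ⁻¹) (y₀ ^ 4) from sc_comm _ _).mul_pow, ← pow_mul, mul_comm 4 r, pow_mul, hc, ← map_pow,
      ← map_pow, ← map_mul, inv_pow, hδr, inv_mul_cancel, map_one]
  · rintro ⟨u, hu⟩
    apply hne
    have h4 : MulAut.conj (y₀ ^ 4) (gam f 0) = gam f 0 := by
      rw [← hconj, hu, MulAut.conj_apply, sc_comm, mul_inv_cancel_right]
    have c1 : Commute (y₀ ^ 4) (gam f 0) := mul_inv_eq_iff_eq_mul.1 h4
    obtain ⟨k, hk⟩ := hr.odd_of_ne_two hr2
    -- `y₀` is a product of powers of `y₀ ^ 4` and `y₀ ^ r`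
    have hg : (Nat.gcd 4 r : ℤ) = 1 := by
      exact_mod_cast ((Nat.coprime_primes Nat.prime_two hr).2 (Ne.symm hr2)).pow_left 2
    have e : y₀ = (y₀ ^ 4) ^ Nat.gcdA 4 r * (y₀ ^ r) ^ Nat.gcdB 4 r := by
      rw [← zpow_natCast y₀ 4, ← zpow_natCast y₀ r, ← _root_.zpow_mul, ← _root_.zpow_mul, ← _root_.zpow_add, ← Nat.gcd_eq_gcd_ab, hg,
        zpow_one]
    rw [MulAut.conj_apply, mul_inv_eq_iff_eq_mul, e]
    exact ((c1.zpow_left _).mul_left ((hcomm 0).zpow_left _)).eq
  · rintro A ⟨s, hs⟩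
    show A.st _ * _ = 1
    rw [Units.val_mul, A.st_mul, mul_assoc, ← mul_assoc (A.st ((sc δ⁻¹ : GL ι F) : Matrix ι ι F)), coe_sc, A.st_smul,
      A.st_one, smul_mul_smul_comm, one_mul, smul_mul_assoc, one_mul, mul_smul_comm, A.sim_pow hs 4, smul_smul]
    have hd := congrArg Matrix.det hs
    rw [Matrix.det_mul, A.det_st, Matrix.det_smul, Matrix.det_one, mul_one, h.dim] at hd
    have hd' : A.σ (δ : F) * (δ : F) = s ^ 4 := hd
    rw [Units.val_inv_eq_inv_val, map_inv₀, ← mul_inv, hd', inv_mul_cancel₀, one_smul]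
    rw [← hd']
    exact mul_ne_zero ((map_ne_zero A.σ).2 δ.ne_zero) δ.ne_zero

theorem sigv_congr {y y' : GL ι F} (hc : ∀ g, MulAut.conj y g = MulAut.conj y' g) : sigv f y = sigv f y' := by
  funext v
  exact congrArg (nu f) (hc (rep f v))

include f in
theorem exists_five (h : Sys R) : ∃ y ∈ Subgroup.normalizer (R : Set (GL ι F)),
    GeneralLinearGroup.det y = 1 ∧ y ^ 5 = 1 ∧ (¬ ∃ c : Fˣ, y = sc c) ∧ ∀ A : Adj R, A.Iso y := by
  set y₀ := U f h 0 1 (by decide) * U f h 1 2 (by decide) * U f h 2 3 (by decide) * U f h 3 4 (by decide) with hy₀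
  let π : Equiv.Perm (Fin 5) := Equiv.swap 0 1 * Equiv.swap 1 2 * Equiv.swap 2 3 * Equiv.swap 3 4
  have hπ : ∀ k, MulAut.conj y₀ (gam f k) = gam f (π k) := fun k => by
    simp only [hy₀, map_mul, MulAut.mul_apply, U_conj, conj_neg', neg_neg]
    rfl
  have hn : ∀ (n : ℕ) k, MulAut.conj (y₀ ^ n) (gam f k) = gam f ((π ^ n) k) := by
    intro n
    induction n with
    | zero => intro k; simp
    | succ n ih =>
      intro k
      rw [pow_succ, map_mul, MulAut.mul_apply, hπ, ih, pow_succ, Equiv.Perm.mul_apply]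
      rfl
  have hy := mem_norm f h (y := y₀) fun k => by rw [hπ]; exact gam_mem f _
  obtain ⟨y, hyN, hd, hp, hns, -, hA⟩ := normalise f h Nat.prime_five (by norm_num) hy
    (fun k => by rw [hn, show π ^ 5 = 1 by decide]; rfl)
    (by rw [hπ]; exact gam_ne f h (by decide))
  exact ⟨y, hyN, hd, hp, hns, fun A => hA A (A.sim_mul (A.sim_mul (A.sim_mul
    (A.sim_diff h.two (gam_mem f _) (gam_mem f _) _ _ _) (A.sim_diff h.two (gam_mem f _) (gam_mem f _) _ _ _))
    (A.sim_diff h.two (gam_mem f _) (gam_mem f _) _ _ _)) (A.sim_diff h.two (gam_mem f _) (gam_mem f _) _ _ _))⟩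

theorem nfix_fourth (h : Sys R) {y y₀ : GL ι F} (hy₀ : y₀ ∈ Subgroup.normalizer (R : Set (GL ι F)))
    (hc : ∀ g, MulAut.conj y g = MulAut.conj (y₀ ^ 4) g) (hy : y ^ 3 = 1) :
    ∀ v, sigv f y₀ v = v → sigv f y v = v := by
  intro v hv
  rw [sigv_congr f hc]
  have : ∀ n : ℕ, sigv f (y₀ ^ n) v = v := by
    intro n
    induction n with
    | zero => rw [pow_zero, sigv_one f h]
    | succ n ih => rw [pow_succ, sigv_mul f h (pow_mem hy₀ n) hy₀, hv, ih]
  exact this 4

theorem exists_three (h : Sys R) : ∃ y ∈ Subgroup.normalizer (R : Set (GL ι F)),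
    GeneralLinearGroup.det y = 1 ∧ y ^ 3 = 1 ∧ (¬ ∃ c : Fˣ, y = sc c) ∧ nfix f y = 4 ∧ ∀ A : Adj R, A.Iso y := by
  classical
  haveI : Fact (Nat.Prime 3) := ⟨Nat.prime_three⟩
  set y₀ := U f h 0 1 (by decide) * U f h 1 2 (by decide) with hy₀
  let π : Equiv.Perm (Fin 5) := Equiv.swap 0 1 * Equiv.swap 1 2
  have hπ : ∀ k, MulAut.conj y₀ (gam f k) = gam f (π k) := fun k => by
    simp only [hy₀, map_mul, MulAut.mul_apply, U_conj, conj_neg', neg_neg]
    rfl
  have hn : ∀ (n : ℕ) k, MulAut.conj (y₀ ^ n) (gam f k) = gam f ((π ^ n) k) := by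
    intro n
    induction n with
    | zero => intro k; simp
    | succ n ih =>
      intro k
      rw [pow_succ, map_mul, MulAut.mul_apply, hπ, ih, pow_succ, Equiv.Perm.mul_apply]
      rfl
  have hy := mem_norm f h (y := y₀) fun k => by rw [hπ]; exact gam_mem f _
  obtain ⟨y, hyN, hd, hp, hns, hc, hA⟩ := normalise f h Nat.prime_three (by norm_num) hy
    (fun k => by rw [hn, show π ^ 3 = 1 by decide]; rfl)
    (by rw [hπ]; exact gam_ne f h (by decide))
  refine ⟨y, hyN, hd, hp, hns, ?_, fun A => hA A (A.sim_mul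
    (A.sim_diff h.two (gam_mem f _) (gam_mem f _) _ _ _) (A.sim_diff h.two (gam_mem f _) (gam_mem f _) _ _ _))⟩
  have hfix : sigv f y (nu f (gam f 3)) = nu f (gam f 3) := by
    rw [← nu_conj f h hyN (gam_mem f 3), show y * gam f 3 * y⁻¹ = MulAut.conj y (gam f 3) from rfl, hc, hn,
      show (π ^ 4) 3 = (3 : Fin 5) by decide]
  have h0 : sigv f y 0 = 0 := by
    have h1 := sigv_add f h hyN 0 0
    rw [add_zero, left_eq_add] at h1
    exact h1
  have hne : nu f (gam f 3) ≠ 0 := by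
    intro e
    obtain ⟨u, hu⟩ := scalar_of_nu f h (gam_mem f 3) e
    haveI := h.nonempty
    have := gam_anti f (show (3 : Fin 5) ≠ 0 by decide)
    rw [hu, ← sc_comm] at this
    exact ne_neg_self h.two _ this
  have h2 : 2 ≤ nfix f y := by
    refine le_trans (Finset.card_pair hne).ge (Finset.card_le_card fun v hv => ?_)
    simp only [Finset.mem_insert, Finset.mem_singleton] at hv
    rcases hv with rfl | rfl <;> simp [hfix, h0]
  rcases nfix_cases f h hyN (r := 3) (by norm_num) hp hns with ⟨-, e⟩ | ⟨e, -⟩ <;> omega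

theorem nu_gam (h : Sys R) (k : Fin 5) :
    nu f (gam f k) = (![![1, 0, 0, 0], ![0, 1, 0, 0], ![1, 1, 1, 0], ![1, 1, 0, 1], ![1, 1, 1, 1]] : Fin 5 → Vec) k := by
  have ha : nu f f.a = ![1, 0, 0, 0] := by
    have := nu_rep f h ![1, 0, 0, 0]
    simpa [rep, ZMod.val_one] using this
  have hb : nu f f.b = ![0, 1, 0, 0] := by
    have := nu_rep f h ![0, 1, 0, 0]
    simpa [rep, ZMod.val_one] using this
  have hc : nu f f.c = ![0, 0, 1, 0] := by
    have := nu_rep f h ![0, 0, 1, 0]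
    simpa [rep, ZMod.val_one] using this
  have hd : nu f f.d = ![0, 0, 0, 1] := by
    have := nu_rep f h ![0, 0, 0, 1]
    simpa [rep, ZMod.val_one] using this
  fin_cases k <;>
    simp [gam, ha, hb, hc, hd, nu_mul f h, mul_mem, f.ha, f.hb, f.hc, f.hd]

include f in
theorem exists_three' (h : Sys R) {i : Fˣ} (hi : (i : F) * i = -1) (hiR : sc i ∈ R) :
    ∃ y ∈ Subgroup.normalizer (R : Set (GL ι F)),
    GeneralLinearGroup.det y = 1 ∧ y ^ 3 = 1 ∧ (¬ ∃ c : Fˣ, y = sc c) ∧ nfix f y = 1 ∧ ∀ A : Adj R, A.Iso y := by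
  classical
  haveI := h.nonempty
  set y₁ := U f h 0 1 (by decide) * U f h 1 2 (by decide) with hy₁
  set w := U f h 3 4 (by decide) * sumUnit h.two (gam_sq f 4) hi with hw
  let π : Equiv.Perm (Fin 5) := Equiv.swap 0 1 * Equiv.swap 1 2
  have hπ : ∀ k, MulAut.conj y₁ (gam f k) = gam f (π k) := fun k => by
    simp only [hy₁, map_mul, MulAut.mul_apply, U_conj, conj_neg', neg_neg]
    rfl
  have hsc : ∀ (u : GL ι F) (t : Fˣ), MulAut.conj u (sc t) = sc t := fun u t => by
    rw [MulAut.conj_apply, ← sc_comm, mul_inv_cancel_right]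
  have hw4 : MulAut.conj w (gam f 4) = -gam f 3 := by
    rw [hw, map_mul, MulAut.mul_apply, show MulAut.conj (sumUnit h.two (gam_sq f 4) hi) (gam f 4) = gam f 4 from
      sum_conj_self _ _ _, U_conj, Equiv.swap_apply_right]
  have hwk : ∀ k, k ≠ 4 → MulAut.conj w (gam f k) = sc i * gam f 3 * gam f (Equiv.swap 3 4 k) := fun k hk => by
    rw [hw, map_mul, MulAut.mul_apply, show MulAut.conj (sumUnit h.two (gam_sq f 4) hi) (gam f k) = sc i * gam f 4 * gam f k from
      sum_conj_other _ _ hi (gam_anti f hk), map_mul, map_mul, hsc, U_conj, U_conj, Equiv.swap_apply_right]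
    simp [mul_assoc]
  set y₀ := y₁ * w with hy₀
  have e4 : MulAut.conj y₀ (gam f 4) = -gam f 3 := by
    rw [hy₀, map_mul, MulAut.mul_apply, hw4, conj_neg', hπ]; rfl
  have ek : ∀ k, k ≠ 4 → MulAut.conj y₀ (gam f k) = sc i * gam f 3 * gam f (π (Equiv.swap 3 4 k)) := fun k hk => by
    rw [hy₀, map_mul, MulAut.mul_apply, hwk k hk, map_mul, map_mul, hsc, hπ, hπ]; rfl
  have hy := mem_norm f h (y := y₀) fun k => by
    by_cases hk : k = 4
    · subst hk; rw [e4, ← neg_one_mul]; exact mul_mem h.neg (gam_mem f 3)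
    · rw [ek k hk]; exact mul_mem (mul_mem hiR (gam_mem f 3)) (gam_mem f _)
  have e3 : MulAut.conj y₀ (gam f 3) = sc i * gam f 3 * gam f 4 := ek 3 (by decide)
  have hii : (sc i * sc i : GL ι F) = -1 := Units.ext (by
    rw [Units.val_mul, coe_sc, smul_mul_smul_comm, hi, one_mul, Units.val_neg, Units.val_one, neg_one_smul])
  have e33 : MulAut.conj y₀ (MulAut.conj y₀ (gam f 3)) = -gam f 4 := by
    rw [e3, map_mul, map_mul, hsc, e3, e4]
    rw [show sc i * (sc i * gam f 3 * gam f 4) * -gam f 3 = sc i * sc i * (gam f 3 * (gam f 4 * -gam f 3)) by group, hii,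
      mul_neg, gam_anti f (show (3 : Fin 5) ≠ 4 by decide), neg_neg, neg_one_mul, ← mul_assoc, gam_sq, one_mul]
  have e333 : MulAut.conj y₀ (MulAut.conj y₀ (MulAut.conj y₀ (gam f 3))) = gam f 3 := by
    rw [e33, conj_neg', e4, neg_neg]
  have e44 : MulAut.conj y₀ (MulAut.conj y₀ (MulAut.conj y₀ (gam f 4))) = gam f 4 := by
    rw [e4, conj_neg', conj_neg', e33, neg_neg]
  have h3 : ∀ g, MulAut.conj (y₀ ^ 3) g = MulAut.conj y₀ (MulAut.conj y₀ (MulAut.conj y₀ g)) := fun g => by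
    rw [pow_succ, pow_two, map_mul, map_mul]; rfl
  have hGG : (gam f 4 : Matrix ι ι F) * (gam f 3 : Matrix ι ι F) = -((gam f 3 : Matrix ι ι F) * (gam f 4 : Matrix ι ι F)) :=
    coe_anti (gam_anti f (show (3 : Fin 5) ≠ 4 by decide))
  have hs3 : ∀ M : Matrix ι ι F, (gam f 3 : Matrix ι ι F) * ((gam f 3 : Matrix ι ι F) * M) = M := fun M => by
    rw [← mul_assoc, coe_sq_one (gam_sq f 3), one_mul]
  have haux : ∀ t : GL ι F, sc i * gam f 3 * gam f 4 * (sc i * gam f 3 * t) = gam f 4 * t := fun t => Units.ext (by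
    simp only [Units.val_mul, coe_sc, smul_mul_assoc, mul_smul_comm, one_mul, smul_smul, hi, neg_one_smul, mul_assoc]
    rw [← mul_assoc (gam f 4 : Matrix ι ι F), hGG, neg_mul, mul_assoc, mul_neg, hs3, neg_neg])
  have haux2 : ∀ t : GL ι F, sc i * -gam f 3 * (sc i * gam f 3 * t) = t := fun t => Units.ext (by
    simp only [Units.val_mul, Units.val_neg, coe_sc, smul_mul_assoc, mul_smul_comm, one_mul, smul_smul, hi, neg_one_smul,
      mul_assoc, neg_mul]
    rw [hs3, smul_neg, smul_smul, hi, neg_one_smul, neg_neg])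
  have hpow : ∀ k, MulAut.conj (y₀ ^ 3) (gam f k) = gam f k := by
    intro k
    rw [h3]
    by_cases hk4 : k = 4
    · subst hk4; exact e44
    by_cases hk3 : k = 3
    · subst hk3; exact e333
    have hstep : ∀ l, l ≠ 3 → l ≠ 4 → MulAut.conj y₀ (gam f l) = sc i * gam f 3 * gam f (π l) ∧ π l ≠ 3 ∧ π l ≠ 4 :=
      fun l hl3 hl4 => ⟨by rw [ek l hl4, Equiv.swap_apply_of_ne_of_ne hl3 hl4], by revert hl3 hl4; revert l; decide⟩
    obtain ⟨f1, f13, f14⟩ := hstep k hk3 hk4
    obtain ⟨f2, f23, f24⟩ := hstep _ f13 f14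
    obtain ⟨f3, -, -⟩ := hstep _ f23 f24
    have g1 : MulAut.conj y₀ (MulAut.conj y₀ (gam f k)) = sc i * gam f 4 * gam f (π (π k)) := by
      rw [f1, map_mul, map_mul, hsc, e3, f2, mul_assoc (sc i) (sc i * gam f 3 * gam f 4), haux, ← mul_assoc]
    rw [g1, map_mul, map_mul, hsc, e4, f3, haux2, (by decide : ∀ k, π (π (π k)) = k) k]
  have hne : MulAut.conj y₀ (gam f 0) ≠ gam f 0 := by
    intro e
    rw [ek 0 (by decide)] at e
    have hnu := congrArg (nu f) e
    rw [mul_assoc, nu_scalar f h hiR (mul_mem (gam_mem f _) (gam_mem f _)), nu_mul f h (gam_mem f _) (gam_mem f _),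
      nu_gam f h, nu_gam f h, nu_gam f h] at hnu
    revert hnu; decide
  obtain ⟨y, hyN, hd, hp, hns, hc, hA⟩ := normalise f h Nat.prime_three (by norm_num) hy hpow hne
  refine ⟨y, hyN, hd, hp, hns, ?_, fun A => hA A (A.sim_mul (A.sim_mul
    (A.sim_diff h.two (gam_mem f _) (gam_mem f _) _ _ _) (A.sim_diff h.two (gam_mem f _) (gam_mem f _) _ _ _))
    (A.sim_mul (A.sim_diff h.two (gam_mem f _) (gam_mem f _) _ _ _) (A.sim_sum h.two (gam_mem f _) _ hi hiR)))⟩
  -- the action of `y` on coordinates is that of `y₀`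
  have hs : ∀ g, MulAut.conj y g = MulAut.conj y₀ g ∨ g ∉ R := fun g => by
    by_cases hg : g ∈ R
    · left
      rw [hc, pow_succ' y₀, map_mul, MulAut.mul_apply]
      congr 1
      -- the cube of `y₀` centralises `R`
      obtain ⟨u, -, e⟩ := eq_rep f h hg
      set φ := (MulAut.conj (y₀ ^ 3)).toMonoidHom
      have ha : φ f.a = f.a := hpow 0
      have hb : φ f.b = f.b := hpow 1
      have hcc : φ f.c = f.c := by
        rw [show f.c = (f.a * f.b)⁻¹ * gam f 2 by simp [gam, mul_assoc], map_mul, map_inv, map_mul, ha, hb]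
        exact congrArg _ (hpow 2)
      have hdd : φ f.d = f.d := by
        rw [show f.d = (f.a * f.b)⁻¹ * gam f 3 by simp [gam, mul_assoc], map_mul, map_inv, map_mul, ha, hb]
        exact congrArg _ (hpow 3)
      show φ g = g
      rw [e, rep]
      simp only [map_mul, map_pow, ha, hb, hcc, hdd]
      rw [show φ (sc u) = sc u from hsc _ u]
    · exact Or.inr hg
  have hsig : ∀ x ∈ R, sigv f y (nu f x) = nu f (MulAut.conj y₀ x) := fun x hx => by
    rw [← nu_conj f h hyN hx, ← (hs x).resolve_right (not_not_intro hx)]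
    rfl
  have hG : ∀ k, k ≠ 4 → sigv f y (nu f (gam f k)) = nu f (gam f 3) + nu f (gam f (π (Equiv.swap 3 4 k))) := fun k hk => by
    rw [hsig _ (gam_mem f k), ek k hk, mul_assoc, nu_scalar f h hiR (mul_mem (gam_mem f _) (gam_mem f _)),
      nu_mul f h (gam_mem f _) (gam_mem f _)]
  let T : Vec →+ Vec := AddMonoidHom.mk' (sigv f y) (sigv_add f h hyN)
  have hA : ∀ v : Vec, sigv f y v = (v 0).val • (![1, 0, 0, 1] : Vec) + (v 1).val • ![0, 0, 1, 1] +
      (v 2).val • ![1, 1, 1, 1] + (v 3).val • ![1, 0, 0, 0] := by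
    intro v
    have t0 : T ![1, 0, 0, 0] = ![1, 0, 0, 1] := by
      have := hG 0 (by decide)
      rw [nu_gam f h, nu_gam f h, nu_gam f h] at this
      exact this.trans (by decide)
    have t1 : T ![0, 1, 0, 0] = ![0, 0, 1, 1] := by
      have := hG 1 (by decide)
      rw [nu_gam f h, nu_gam f h, nu_gam f h] at this
      exact this.trans (by decide)
    have t2 : T ![0, 0, 1, 0] = ![1, 1, 1, 1] := by
      have := hG 2 (by decide)
      rw [nu_gam f h, nu_gam f h, nu_gam f h] at this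
      have e : T ![1, 1, 1, 0] = T ![1, 0, 0, 0] + T ![0, 1, 0, 0] + T ![0, 0, 1, 0] := by
        rw [← map_add, ← map_add]; exact congrArg T (by decide)
      rw [show sigv f y ((![![1, 0, 0, 0], ![0, 1, 0, 0], ![1, 1, 1, 0], ![1, 1, 0, 1], ![1, 1, 1, 1]] : Fin 5 → Vec) 2)
        = T ![1, 1, 1, 0] from rfl, e, t0, t1] at this
      revert this
      generalize T ![0, 0, 1, 0] = w
      revert w; decide
    have t3 : T ![0, 0, 0, 1] = ![1, 0, 0, 0] := by
      have := hG 3 (by decide)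
      rw [nu_gam f h, nu_gam f h] at this
      have e : T ![1, 1, 0, 1] = T ![1, 0, 0, 0] + T ![0, 1, 0, 0] + T ![0, 0, 0, 1] := by
        rw [← map_add, ← map_add]; exact congrArg T (by decide)
      rw [show sigv f y ((![![1, 0, 0, 0], ![0, 1, 0, 0], ![1, 1, 1, 0], ![1, 1, 0, 1], ![1, 1, 1, 1]] : Fin 5 → Vec) 3)
        = T ![1, 1, 0, 1] from rfl, e, t0, t1] at this
      revert this
      generalize T ![0, 0, 0, 1] = w
      revert w; decide
    have ev : v = (v 0).val • (![1, 0, 0, 0] : Vec) + (v 1).val • ![0, 1, 0, 0] + (v 2).val • ![0, 0, 1, 0] +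
        (v 3).val • ![0, 0, 0, 1] := by revert v; decide
    show T v = _
    conv_lhs => rw [ev]
    rw [map_add, map_add, map_add, map_nsmul, map_nsmul, map_nsmul, map_nsmul, t0, t1, t2, t3]
  unfold nfix
  simp only [hA]
  decide

include f in
theorem exists_refl (h : Sys R) {i : Fˣ} (hi : (i : F) * i = -1) (hiR : sc i ∈ R) :
    ∃ M ∈ Subgroup.normalizer (R : Set (GL ι F)),
      M * M = 1 ∧ (¬ ∃ c : Fˣ, M = sc c) ∧ (M : Matrix ι ι F).trace = 2 ∧ ∀ A : Adj R, A.Iso M := by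
  haveI := h.nonempty
  set B := sc i * f.c with hBdef
  have hB : B * B = 1 := by
    rw [hBdef, show sc i * f.c * (sc i * f.c) = sc i * (f.c * sc i) * f.c by group, ← sc_comm,
      show sc i * (sc i * f.c) * f.c = sc i * sc i * (f.c * f.c) by group, f.cc]
    refine Units.ext ?_
    simp [smul_smul, hi]
  have hAB : B * f.a = f.a * B := by
    rw [hBdef, mul_assoc, f.ca, ← mul_assoc, sc_comm, mul_assoc]
  have hBR : B ∈ R := mul_mem hiR f.hc
  set M := reflUnit h.two f.aa hB hAB with hM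
  have cb : MulAut.conj M f.b = f.b * B := by
    refine refl_conj h.two f.aa hB hAB (by rw [f.ba, neg_neg]) ?_
    rw [hBdef, mul_assoc, f.cb, ← mul_assoc, sc_comm, mul_assoc]
  have ca : MulAut.conj M f.a = f.a := by
    rw [MulAut.conj_apply, mul_inv_eq_iff_eq_mul]
    refine Units.ext ?_
    have c : (B : Matrix ι ι F) * f.a = (f.a : Matrix ι ι F) * B := congrArg Units.val hAB
    rw [Units.val_mul, Units.val_mul, hM, coe_refl, smul_mul_assoc, mul_smul_comm]
    congr 1
    simp only [add_mul, sub_mul, mul_add, mul_sub, one_mul, mul_one, coe_sq_one f.aa, c, mul_assoc]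
  have cc' : MulAut.conj M f.c = f.c := by
    have c1 : (f.a : Matrix ι ι F) * f.c = (f.c : Matrix ι ι F) * f.a := congrArg Units.val f.ca.symm
    have c2 : (B : Matrix ι ι F) * f.c = (f.c : Matrix ι ι F) * B := congrArg Units.val
      (show B * f.c = f.c * B by rw [hBdef, ← mul_assoc f.c, ← sc_comm])
    rw [MulAut.conj_apply, mul_inv_eq_iff_eq_mul]
    refine Units.ext ?_
    rw [Units.val_mul, Units.val_mul, hM, coe_refl, smul_mul_assoc, mul_smul_comm]
    congr 1
    simp only [add_mul, sub_mul, mul_add, mul_sub, one_mul, mul_one]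
    rw [c1, c2, mul_assoc (f.a : Matrix ι ι F) (B : Matrix ι ι F), c2, ← mul_assoc (f.a : Matrix ι ι F) (f.c : Matrix ι ι F), c1,
      mul_assoc]
  have hMN : M ∈ Subgroup.normalizer (R : Set (GL ι F)) := by
    -- `d` anticommutes with `B` and commutes with `a`
    have hBd : B * f.d = -(f.d * B) := by
      rw [hBdef, mul_assoc, show f.c * f.d = -(f.d * f.c) by rw [f.dc, neg_neg], mul_neg, ← mul_assoc, sc_comm, mul_assoc]
    have cd : MulAut.conj M f.d = f.d * f.a := by
      have hsym : reflUnit h.two hB f.aa hAB.symm = M := Units.ext (by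
        rw [hM, coe_refl, coe_refl,
          show (B : Matrix ι ι F) * f.a = (f.a : Matrix ι ι F) * B from congrArg Units.val hAB]
        congr 1
        abel)
      rw [← hsym]
      exact refl_conj h.two hB f.aa hAB.symm hBd f.da.symm
    refine mem_norm f h fun k => ?_
    fin_cases k <;> simp only [gam] <;>
      first
        | (show MulAut.conj M f.a ∈ R; rw [ca]; exact f.ha)
        | (show MulAut.conj M f.b ∈ R; rw [cb]; exact mul_mem f.hb hBR)
        | (show MulAut.conj M (f.a * f.b * f.c) ∈ R; simp only [map_mul, ca, cb, cc']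
           exact mul_mem (mul_mem f.ha (mul_mem f.hb hBR)) f.hc)
        | (show MulAut.conj M (f.a * f.b * f.d) ∈ R; simp only [map_mul, ca, cb, cd]
           exact mul_mem (mul_mem f.ha (mul_mem f.hb hBR)) (mul_mem f.hd f.ha))
        | (show MulAut.conj M (f.a * f.b * (f.c * f.d)) ∈ R; simp only [map_mul, ca, cb, cc', cd]
           exact mul_mem (mul_mem f.ha (mul_mem f.hb hBR)) (mul_mem f.hc (mul_mem f.hd f.ha)))
  refine ⟨M, hMN, Units.ext (reflUnit.refl_sq h.two f.aa hB hAB), ?_, ?_, fun A => ?_⟩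
  · rintro ⟨t, ht⟩
    rw [ht, MulAut.conj_apply, sc_comm, mul_inv_cancel_right] at cb
    have hB1 : B = 1 := by simpa using cb.symm
    have := nu_scalar f h hiR f.hc
    rw [← hBdef, hB1, nu_one] at this
    have hc0 : nu f f.c = ![0, 0, 1, 0] := by
      have := nu_rep f h ![0, 0, 1, 0]
      simpa [rep, ZMod.val_one] using this
    rw [hc0] at this
    exact absurd this (by decide)
  · have ha0 : nu f f.a ≠ 0 := by
      have := nu_gam f h 0
      rw [show gam f 0 = f.a from rfl] at this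
      rw [this]; decide
    have hc0 : nu f f.c = ![0, 0, 1, 0] := by
      have := nu_rep f h ![0, 0, 1, 0]
      simpa [rep, ZMod.val_one] using this
    have hB0 : nu f B ≠ 0 := by
      rw [hBdef, nu_scalar f h hiR f.hc, hc0]; decide
    have hab0 : nu f (f.a * B) ≠ 0 := by
      rw [nu_mul f h f.ha hBR, hBdef, nu_scalar f h hiR f.hc, hc0]
      have := nu_gam f h 0
      rw [show gam f 0 = f.a from rfl] at this
      rw [this]; decide
    rw [hM, coe_refl, Matrix.trace_smul, Matrix.trace_sub, Matrix.trace_add, Matrix.trace_add, Matrix.trace_one, h.dim,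
      trace_eq_zero f h f.ha ha0, trace_eq_zero f h hBR hB0, ← Units.val_mul,
      trace_eq_zero f h (mul_mem f.ha hBR) hab0, smul_eq_mul, Nat.cast_ofNat]
    field_simp [h.two]
    norm_num
  · show A.st _ * _ = 1
    have e : A.st (M : Matrix ι ι F) = M := by
      rw [hM, coe_refl, A.st_smul, map_inv₀, map_ofNat, sub_eq_add_neg, A.st_add, A.st_add, A.st_add, A.st_one, A.st_neg,
        A.st_mul, A.fix_invol f.ha f.aa, A.fix_invol hBR hB,
        show (B : Matrix ι ι F) * f.a = (f.a : Matrix ι ι F) * B from congrArg Units.val hAB, ← sub_eq_add_neg]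
    rw [e]
    exact reflUnit.refl_sq h.two f.aa hB hAB

end CfsgLib.PauliFour
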